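import Cfsg.Agent.Lib.BlockTwist.HatVal
import Mathlib.GroupTheory.Sylow
import Mathlib.GroupTheory.Index
import Mathlib.GroupTheory.IndexNormal

/-!
# Fixed elements with vanishing Brauer image are sums of relative traces
-/

set_option autoImplicit false
set_option maxHeartbeats 1000000
set_option synthInstance.maxHeartbeats 400000

namespace CfsgLib.BlockTwist

open Cfsg CfsgLib.Blocks CfsgLib.Blocks.Pairs
open scoped Classical

universe u

variable {M : Ideal AlgInt} [M.IsMaximal] {G : Type u} [Group G] [Finite G] {p : ℕ} [Fact p.Prime]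

/-- `N` is normal of index `p` in `Q`, with `q` outside. -/
structure MaxStep (p : ℕ) (N Q : Subgroup G) (q : G) : Prop where
  le : N ≤ Q
  mem : q ∈ Q
  notMem : q ∉ N
  conj : ∀ t ∈ Q, ∀ n ∈ N, t * n * t⁻¹ ∈ N
  pow : q ^ p ∈ N
  cover : ∀ t ∈ Q, ∃ j, j < p ∧ (q ^ j)⁻¹ * t ∈ N
  inj : ∀ i j, i < p → j < p → ∀ t : G, (q ^ i)⁻¹ * t ∈ N → (q ^ j)⁻¹ * t ∈ N → i = j

theorem exists_maxStep {Q S : Subgroup G} (hQ : IsPGroup p Q) (hS : S < Q) :
    ∃ (N : Subgroup G) (q : G), MaxStep p N Q q ∧ S ≤ N := by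
  have hp : p.Prime := Fact.out
  obtain ⟨m, hm⟩ := IsPGroup.iff_card.1 hQ
  obtain ⟨n, hn⟩ := IsPGroup.iff_card.1 (hQ.to_le hS.le)
  have hlt : Nat.card S < Nat.card Q := Pairs.card_lt_of_lt hS
  rw [hm, hn] at hlt
  have hnm : n < m := (Nat.pow_lt_pow_iff_right hp.one_lt).1 hlt
  obtain ⟨K, hK, hSK⟩ := Sylow.exists_subgroup_card_pow_prime_le (G := Q) p (n := n) (m := m - 1)
    (by rw [hm]; exact pow_dvd_pow p (Nat.sub_le m 1)) (S.subgroupOf Q)
    (by rw [Nat.card_congr (Subgroup.subgroupOfEquivOfLe hS.le).toEquiv, hn]) (by omega)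
  have hidx : K.index = p := by
    have h := K.card_mul_index
    rw [hK, hm] at h
    refine Nat.eq_of_mul_eq_mul_left (pow_pos hp.pos (m - 1)) ?_
    rw [h, ← pow_succ]
    congr 1
    omega
  haveI : K.Normal := Subgroup.normal_of_index_eq_minFac_card (by
    rw [hidx, hm, Nat.Prime.pow_minFac hp (by omega)])
  have hcard : Nat.card (Q ⧸ K) = p := hidx
  obtain ⟨q, hq⟩ : ∃ q : Q, q ∉ K := by
    by_contra hc
    push Not at hc
    rw [(Subgroup.eq_top_iff' K).2 hc, Subgroup.index_top] at hidx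
    exact hp.one_lt.ne hidx
  have hord : orderOf (QuotientGroup.mk q : Q ⧸ K) = p := by
    have h1 : orderOf (QuotientGroup.mk q : Q ⧸ K) ∣ p := hcard ▸ orderOf_dvd_natCard _
    exact (hp.eq_one_or_self_of_dvd _ h1).resolve_left fun h =>
      hq ((QuotientGroup.eq_one_iff q).1 (orderOf_eq_one_iff.1 h))
  have hmem : ∀ (t : Q) (j : ℕ), ((q : G) ^ j)⁻¹ * (t : G) ∈ K.map Q.subtype ↔
      (QuotientGroup.mk q : Q ⧸ K) ^ j = QuotientGroup.mk t := by
    intro t j
    rw [show ((q : G) ^ j)⁻¹ * (t : G) = Q.subtype ((q ^ j)⁻¹ * t) by simp,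
      Subgroup.mem_map_iff_mem Subtype.val_injective, ← QuotientGroup.eq, QuotientGroup.mk_pow]
  refine ⟨K.map Q.subtype, q, ⟨Subgroup.map_subtype_le K, q.2, ?_, ?_, ?_, ?_, ?_⟩, ?_⟩
  · rw [show (q : G) = Q.subtype q from rfl, Subgroup.mem_map_iff_mem Subtype.val_injective]
    exact hq
  · rintro t ht _ ⟨k, hk, rfl⟩
    exact ⟨⟨t, ht⟩ * k * ⟨t, ht⟩⁻¹, (inferInstance : K.Normal).conj_mem k hk _, rfl⟩
  · refine ⟨q ^ p, ?_, by simp⟩
    rw [SetLike.mem_coe, ← QuotientGroup.eq_one_iff, QuotientGroup.mk_pow, ← hord,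
      pow_orderOf_eq_one]
  · intro t ht
    have hgen : (QuotientGroup.mk (⟨t, ht⟩ : Q) : Q ⧸ K) ∈
        Submonoid.powers (QuotientGroup.mk q : Q ⧸ K) :=
      mem_powers_of_prime_card hcard (fun h => hq ((QuotientGroup.eq_one_iff q).1 h))
    obtain ⟨j, hj⟩ := hgen
    refine ⟨j % p, Nat.mod_lt _ hp.pos, (hmem ⟨t, ht⟩ _).2 ?_⟩
    rw [← hord, pow_mod_orderOf]
    exact hj
  · intro i j hi hj t h1 h2
    have hqi : (q : G) ^ i ∈ Q := Subgroup.pow_mem _ q.2 i
    have ht : t ∈ Q := by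
      have := Q.mul_mem hqi (Subgroup.map_subtype_le K h1)
      rwa [mul_inv_cancel_left] at this
    have e1 := (hmem ⟨t, ht⟩ i).1 h1
    have e2 := (hmem ⟨t, ht⟩ j).1 h2
    exact pow_injOn_Iio_orderOf (by rw [hord]; exact hi) (by rw [hord]; exact hj) (e1.trans e2.symm)
  · intro x hx
    exact ⟨⟨x, hS.le hx⟩, hSK (show (⟨x, hS.le hx⟩ : Q) ∈ S.subgroupOf Q from hx), rfl⟩

theorem conjA_smul {F : Type*} [Field F] (x : G) (r : F) (a : MonoidAlgebra F G) :
    conjA x (r • a) = r • conjA x a := by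
  ext c
  simp

variable [CharP (ResField M) p]

/-- A fixed element with zero Brauer image is a sum of relative traces. -/
theorem exists_relTrace_decomp {Q H : Subgroup G} (hQ : IsPGroup p Q) (hH : ¬ p ∣ Nat.card H)
    (hc : ∀ u ∈ Q, ∀ h ∈ H, h * u = u * h) {x : MonoidAlgebra (ResField M) G}
    (hx : x ∈ fixAlg M ((Q ⊔ H : Subgroup G) : Set G)) (h0 : trunc Q x = 0) :
    ∃ (ι : Finset (Subgroup G)) (q : Subgroup G → G)
      (a : Subgroup G → MonoidAlgebra (ResField M) G),
      (∀ N ∈ ι, MaxStep p N Q (q N) ∧ a N ∈ fixAlg M ((N ⊔ H : Subgroup G) : Set G)) ∧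
      x = ∑ N ∈ ι, ∑ l ∈ Finset.range p, conjA (q N ^ l) (a N) := by
  haveI := Fintype.ofFinite G
  haveI : Fintype (Subgroup G) := Fintype.ofFinite _
  let ι : Finset (Subgroup G) := Finset.univ.filter fun N => ∃ q, MaxStep p N Q q
  let q : Subgroup G → G := fun N => if h : ∃ q, MaxStep p N Q q then h.choose else 1
  have hq : ∀ N ∈ ι, MaxStep p N Q (q N) := fun N hN => by
    have h := (Finset.mem_filter.1 hN).2
    simp only [q, dif_pos h]
    exact h.choose_spec
  let Stab : G → Subgroup G := fun c => Q ⊓ Subgroup.centralizer ({c} : Set G)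
  have hStab : ∀ c t : G, t ∈ Stab c ↔ t ∈ Q ∧ t * c * t⁻¹ = c := fun c t => by
    simp only [Stab, Subgroup.mem_inf, Subgroup.mem_centralizer_singleton_iff]
    exact and_congr_right fun _ => ⟨fun h => by rw [h, mul_inv_cancel_right],
      fun h => mul_inv_eq_iff_eq_mul.1 h⟩
  let cand : G → Finset (Subgroup G) := fun c => ι.filter fun N => Stab c ≤ N
  let sel : Finset (Subgroup G) → Subgroup G := fun s => if h : s.Nonempty then h.choose else Q
  let Nc : G → Subgroup G := fun c => sel (cand c)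
  have hNc : ∀ c, c ∉ Subgroup.centralizer (Q : Set G) → Nc c ∈ ι ∧ Stab c ≤ Nc c := by
    intro c hc'
    have hlt : Stab c < Q := lt_of_le_of_ne inf_le_left fun h => hc' (by
      rw [Subgroup.mem_centralizer_iff]
      intro t ht
      exact mul_inv_eq_iff_eq_mul.1 ((hStab c t).1 (h.symm ▸ ht)).2)
    obtain ⟨N, q', hN, hle⟩ := exists_maxStep hQ hlt
    have hne : (cand c).Nonempty :=
      ⟨N, Finset.mem_filter.2 ⟨Finset.mem_filter.2 ⟨Finset.mem_univ _, q', hN⟩, hle⟩⟩
    show sel (cand c) ∈ ι ∧ Stab c ≤ sel (cand c)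
    simp only [sel, dif_pos hne]
    exact ⟨(Finset.mem_filter.1 hne.choose_spec).1, (Finset.mem_filter.1 hne.choose_spec).2⟩
  have hNcQ : ∀ t ∈ Q, ∀ c, Nc (t * c * t⁻¹) = Nc c := by
    intro t ht c
    refine congrArg sel (Finset.filter_congr fun N hN => ?_)
    have hn := (hq N hN).conj
    have hst : ∀ v, v ∈ Stab (t * c * t⁻¹) ↔ t⁻¹ * v * t ∈ Stab c := fun v => by
      rw [hStab, hStab, Subgroup.mul_mem_cancel_right Q ht,
        Subgroup.mul_mem_cancel_left Q (Q.inv_mem ht)]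
      refine and_congr_right fun _ => ⟨fun h => ?_, fun h => ?_⟩
      · calc t⁻¹ * v * t * c * (t⁻¹ * v * t)⁻¹ = t⁻¹ * (v * (t * c * t⁻¹) * v⁻¹) * t := by group
          _ = c := by rw [h]; group
      · calc v * (t * c * t⁻¹) * v⁻¹ = t * (t⁻¹ * v * t * c * (t⁻¹ * v * t)⁻¹) * t⁻¹ := by group
          _ = _ := by rw [h]
    constructor
    · intro h v hv
      have h1 : t * v * t⁻¹ ∈ N := h ((hst _).2 (by simpa [mul_assoc] using hv))
      simpa [mul_assoc] using hn t⁻¹ (Q.inv_mem ht) _ h1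
    · intro h v hv
      have h1 := hn t ht _ (h ((hst v).1 hv))
      simpa [mul_assoc] using h1
  have hNcH : ∀ t ∈ H, ∀ c, Nc (t * c * t⁻¹) = Nc c := by
    intro t ht c
    have : Stab (t * c * t⁻¹) = Stab c := by
      ext v
      rw [hStab, hStab]
      refine and_congr_right fun hv => ?_
      have hvt := hc v hv t ht
      rw [show v * (t * c * t⁻¹) * v⁻¹ = t * (v * c * v⁻¹) * t⁻¹ by
        calc v * (t * c * t⁻¹) * v⁻¹ = v * t * c * (v * t)⁻¹ := by group
          _ = t * v * c * (t * v)⁻¹ := by rw [hvt]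
          _ = _ := by group]
      exact ⟨fun h => mul_left_cancel (mul_right_cancel h), fun h => by rw [h]⟩
    show sel _ = sel _
    simp only [cand, this]
  let rep : G → G := fun c => Classical.epsilon fun d => ∃ t ∈ Q, t * d * t⁻¹ = c
  have hrep : ∀ c, ∃ t ∈ Q, t * rep c * t⁻¹ = c := fun c =>
    Classical.epsilon_spec (p := fun d => ∃ t ∈ Q, t * d * t⁻¹ = c) ⟨c, 1, Q.one_mem, by group⟩
  have hrepQ : ∀ t ∈ Q, ∀ c, rep (t * c * t⁻¹) = rep c := by
    intro t ht c
    refine congrArg Classical.epsilon (funext fun d => propext ?_)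
    constructor
    · rintro ⟨s, hs, h⟩
      refine ⟨t⁻¹ * s, Q.mul_mem (Q.inv_mem ht) hs, ?_⟩
      calc t⁻¹ * s * d * (t⁻¹ * s)⁻¹ = t⁻¹ * (s * d * s⁻¹) * t := by group
        _ = c := by rw [h]; group
    · rintro ⟨s, hs, h⟩
      exact ⟨t * s, Q.mul_mem ht hs, by rw [← h]; group⟩
  have hQK : Q ≤ Q ⊔ H := le_sup_left
  have hxfix : ∀ t ∈ Q ⊔ H, ∀ c, x.coeff (t * c * t⁻¹) = x.coeff c := fun t ht c =>
    conjFixed_of_fixAlg hx t ht c
  let xN : Subgroup G → MonoidAlgebra (ResField M) G := fun N =>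
    ofFun fun c => if Nc c = N then x.coeff c else 0
  let b : Subgroup G → MonoidAlgebra (ResField M) G := fun N =>
    ofFun fun c => if Nc c = N ∧ ∃ n ∈ N, n * rep c * n⁻¹ = c then x.coeff c else 0
  have hsum : x = ∑ N ∈ ι, xN N := by
    refine MonoidAlgebra.ext (Finsupp.ext fun c => ?_)
    simp only [MonoidAlgebra.coeff_sum, Finsupp.finsetSum_apply, xN, coeff_ofFun,
      Finset.sum_ite_eq]
    split_ifs with h
    · rfl
    · by_contra hne
      refine h (hNc c fun hc' => hne ?_).1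
      have := congrArg (fun z => z.coeff c) h0
      simpa [hc'] using this
  have htrb : ∀ N ∈ ι, ∑ l ∈ Finset.range p, conjA (q N ^ l) (b N) = xN N := by
    intro N hN
    refine MonoidAlgebra.ext (Finsupp.ext fun c => ?_)
    simp only [MonoidAlgebra.coeff_sum, Finsupp.finsetSum_apply, coeff_conjA, xN, b, coeff_ofFun]
    have hql : ∀ l : ℕ, (q N ^ l)⁻¹ ∈ Q := fun l => Q.inv_mem (Q.pow_mem (hq N hN).mem l)
    have e1 : ∀ l : ℕ, Nc ((q N ^ l)⁻¹ * c * q N ^ l) = Nc c := fun l => by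
      simpa using hNcQ _ (hql l) c
    have e2 : ∀ l : ℕ, x.coeff ((q N ^ l)⁻¹ * c * q N ^ l) = x.coeff c := fun l => by
      simpa using hxfix _ (hQK (hql l)) c
    have e3 : ∀ l : ℕ, rep ((q N ^ l)⁻¹ * c * q N ^ l) = rep c := fun l => by
      simpa using hrepQ _ (hql l) c
    simp only [e1, e2, e3]
    by_cases hcN : Nc c = N
    swap
    · simp [hcN]
    by_cases hx0 : x.coeff c = 0
    · simp [hx0]
    have hcC : c ∉ Subgroup.centralizer (Q : Set G) := fun h => hx0 (by
      have := congrArg (fun z => z.coeff c) h0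
      simpa [h] using this)
    obtain ⟨t, ht, htc⟩ := hrep c
    have hcand : Stab (rep c) ≤ N := by
      have h1 : Nc (rep c) = N := by rw [← hcN, ← hNcQ t ht (rep c), htc]
      have h2 : rep c ∉ Subgroup.centralizer (Q : Set G) := fun h => hcC (by
        rw [← htc, Subgroup.mem_centralizer_iff.1 h t ht, mul_inv_cancel_right]
        exact h)
      exact h1 ▸ (hNc _ h2).2
    have hiff : ∀ l : ℕ, (∃ n ∈ N, n * rep c * n⁻¹ = (q N ^ l)⁻¹ * c * q N ^ l) ↔
        (q N ^ l)⁻¹ * t ∈ N := by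
      intro l
      constructor
      · rintro ⟨n, hn, h⟩
        have hmem : (q N ^ l * n)⁻¹ * t ∈ Stab (rep c) := by
          rw [hStab]
          refine ⟨Q.mul_mem (Q.inv_mem (Q.mul_mem (Q.pow_mem (hq N hN).mem l)
            ((hq N hN).le hn))) ht, ?_⟩
          calc (q N ^ l * n)⁻¹ * t * rep c * ((q N ^ l * n)⁻¹ * t)⁻¹
              = n⁻¹ * ((q N ^ l)⁻¹ * (t * rep c * t⁻¹) * q N ^ l) * n := by group
            _ = n⁻¹ * (n * rep c * n⁻¹) * n := by rw [htc, h]
            _ = rep c := by group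
        have h2 := N.mul_mem hn (hcand hmem)
        rwa [mul_inv_rev, ← mul_assoc, ← mul_assoc, mul_inv_cancel, one_mul] at h2
      · intro h
        refine ⟨_, h, ?_⟩
        calc (q N ^ l)⁻¹ * t * rep c * ((q N ^ l)⁻¹ * t)⁻¹
            = (q N ^ l)⁻¹ * (t * rep c * t⁻¹) * q N ^ l := by group
          _ = _ := by rw [htc]
    obtain ⟨j, hj, hjt⟩ := (hq N hN).cover t ht
    rw [if_pos hcN, Finset.sum_eq_single j]
    · rw [if_pos ⟨hcN, (hiff j).2 hjt⟩]
    · intro l hl hlj
      rw [if_neg]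
      rintro ⟨-, h⟩
      exact hlj ((hq N hN).inj l j (Finset.mem_range.1 hl) hj t ((hiff l).1 h) hjt)
    · intro h
      exact absurd (Finset.mem_range.2 hj) h
  let r : ResField M := ((Nat.card H : ℕ) : ResField M)⁻¹
  have hr : r * ((Nat.card H : ℕ) : ResField M) = 1 := inv_mul_cancel₀ fun h =>
    hH ((CharP.cast_eq_zero_iff (ResField M) p _).1 h)
  refine ⟨ι, q, fun N => r • ∑ h : H, conjA (h : G) (b N), fun N hN => ⟨hq N hN, ?_⟩, ?_⟩
  · refine mem_fixAlg.2 fun g hg => ?_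
    have hle : (N ⊔ H : Subgroup G) ≤ stabA (r • ∑ h : H, conjA (h : G) (b N)) := by
      refine sup_le (fun n hn => ?_) fun t ht => ?_
      · show conjA n _ = _
        rw [conjA_smul, conjA_sum]
        congr 1
        refine Finset.sum_congr rfl fun h _ => ?_
        have hbn : conjA n (b N) = b N := by
          refine conjFixed_iff.1 (fun v hv c => ?_) n hn
          have hvQ := (hq N hN).le hv
          simp only [b, coeff_ofFun, hNcQ v hvQ c, hrepQ v hvQ c, hxfix v (hQK hvQ) c]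
          refine if_congr (and_congr_right fun _ => ?_) rfl rfl
          constructor
          · rintro ⟨m, hm, he⟩
            refine ⟨v⁻¹ * m, N.mul_mem (N.inv_mem hv) hm, ?_⟩
            calc v⁻¹ * m * rep c * (v⁻¹ * m)⁻¹ = v⁻¹ * (m * rep c * m⁻¹) * v := by group
              _ = c := by rw [he]; group
          · rintro ⟨m, hm, he⟩
            refine ⟨v * m, N.mul_mem hv hm, ?_⟩
            calc v * m * rep c * (v * m)⁻¹ = v * (m * rep c * m⁻¹) * v⁻¹ := by group
              _ = _ := by rw [he]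
        rw [conjA_conjA, ← hc n ((hq N hN).le hn) (h : G) h.2, ← conjA_conjA, hbn]
      · show conjA t _ = _
        rw [conjA_smul, conjA_sum]
        congr 1
        refine Fintype.sum_equiv (Equiv.mulLeft (⟨t, ht⟩ : H)) _ _ fun h => ?_
        rw [conjA_conjA]
        rfl
    exact hle hg
  · conv_lhs => rw [hsum]
    refine Finset.sum_congr rfl fun N hN => ?_
    have hxH : ∀ h : H, conjA (h : G) (xN N) = xN N := fun h => by
      refine conjFixed_iff.1 (fun v hv c => ?_) (h : G) h.2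
      simp only [xN, coeff_ofFun, hNcH v hv c,
        hxfix v ((le_sup_right : H ≤ Q ⊔ H) hv) c]
    have key : ∀ (l : ℕ) (h : H), conjA (q N ^ l) (conjA (h : G) (b N)) =
        conjA (h : G) (conjA (q N ^ l) (b N)) := fun l h => by
      rw [conjA_conjA, conjA_conjA, hc _ (Q.pow_mem (hq N hN).mem l) (h : G) h.2]
    rw [Finset.sum_congr rfl fun l _ => by rw [conjA_smul, conjA_sum,
        Finset.sum_congr rfl fun h _ => key l h],
      ← Finset.smul_sum, Finset.sum_comm,
      Finset.sum_congr rfl fun h _ => by rw [← conjA_sum, htrb N hN, hxH h],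
      Finset.sum_const, Finset.card_univ, ← Nat.card_eq_fintype_card,
      ← Nat.cast_smul_eq_nsmul (ResField M), smul_smul, hr, one_smul]

end CfsgLib.BlockTwist
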