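import Cfsg.Agent.Lib.BlockTwist.Twist
import Cfsg.Agent.Lib.BlockTwist.RelTrace
import Cfsg.Agent.Lib.Char.Brauer
import Cfsg.Agent.Lib.NilpPerm.Bound

/-!
# The twist is a generalized character
-/

set_option autoImplicit false
set_option maxHeartbeats 2000000
set_option synthInstance.maxHeartbeats 400000

namespace CfsgLib.BlockTwist

open Cfsg CfsgLib.Blocks CfsgLib.Blocks.Pairs CfsgLib.DegreeSq
open scoped Classical ComplexConjugate

universe u

/-- A class function with integral inner products is a generalized character. -/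
theorem isGeneralizedCharacter_of_integral {G : Type u} [Group G] [Fintype G] {θ : G → ℂ}
    (hθ : Cfsg.IsClassFunction G θ)
    (h : ∀ χ : Cfsg.IrrCharacter G, ∃ z : ℤ, Cfsg.classInner θ (χ : G → ℂ) = z) :
    Cfsg.IsGeneralizedCharacter G θ := by
  rw [CfsgLib.Char.IsClassFunction.eq_sum_classInner hθ]
  refine CfsgLib.Char.IsGeneralizedCharacter.sum _ _ fun χ _ => ?_
  obtain ⟨z, hz⟩ := h χ
  rw [hz]
  exact CfsgLib.Char.IsGeneralizedCharacter.intCast_smul
    (CfsgLib.Char.IsIrrCharacter.isGeneralizedCharacter χ.2) z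

theorem exists_int_classInner {G : Type u} [Group G] [Fintype G] {θ : G → ℂ}
    (hθ : Cfsg.IsGeneralizedCharacter G θ) {ψ : G → ℂ} (hψ : Cfsg.IsCharacter G ψ) :
    ∃ z : ℤ, Cfsg.classInner θ ψ = z := by
  obtain ⟨a, b, ha, hb, rfl⟩ := hθ
  have key : ∀ a : G → ℂ, Cfsg.IsCharacter G a → ∃ z : ℤ, Cfsg.classInner a ψ = z := by
    intro a ha
    rw [CfsgLib.Char.classInner_eq_sum (CfsgLib.Char.IsCharacter.isClassFunction ha)
      (CfsgLib.Char.IsCharacter.isClassFunction hψ)]
    choose m hm using fun φ : Cfsg.IrrCharacter G =>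
      CfsgLib.Char.IsCharacter.exists_nat_classInner ha φ.2
    choose l hl using fun φ : Cfsg.IrrCharacter G =>
      CfsgLib.Char.IsCharacter.exists_nat_classInner hψ φ.2
    refine ⟨∑ φ : Cfsg.IrrCharacter G, ((m φ * l φ : ℕ) : ℤ), ?_⟩
    push_cast
    refine Finset.sum_congr rfl fun φ _ => ?_
    rw [hm, hl, map_natCast]
  obtain ⟨z, hz⟩ := key a ha
  obtain ⟨w, hw⟩ := key b hb
  exact ⟨z - w, by rw [CfsgLib.Char.classInner_sub_left, hz, hw]; push_cast; ring⟩

variable {M : Ideal AlgInt} [M.IsMaximal] {G : Type u} [Group G] [Finite G] {p : ℕ} [Fact p.Prime]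
  [CharP (ResField M) p] {B e : MonoidAlgebra (ResField M) G} {P : Subgroup G} {lam χ : G → ℂ}

/-- The decomposition of the elements of a product of a `p`-group and a commuting `p'`-group. -/
theorem exists_split_mem {Q H : Subgroup G} (hQ : IsPGroup p Q) (hH : ¬ p ∣ Nat.card H)
    (hc : ∀ u ∈ Q, ∀ h ∈ H, h * u = u * h) {g : G} (hg : g ∈ Q ⊔ H) :
    ∃ u ∈ Q, ∃ h ∈ H, g = u * h ∧ pp p g = u := by
  have hn : H ≤ Subgroup.normalizer (Q : Set G) := fun h hh =>
    Subgroup.centralizer_le_normalizer _ (Subgroup.mem_centralizer_iff.2 fun u hu => (hc u hu h hh).symm)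
  rw [← SetLike.mem_coe, Subgroup.coe_mul_of_right_le_normalizer_left Q H hn] at hg
  obtain ⟨u, hu, h, hh, rfl⟩ := hg
  refine ⟨u, hu, h, hh, rfl, pp_eq ?_⟩
  obtain ⟨k, hk⟩ := IsPGroup.iff_orderOf.1 hQ ⟨u, hu⟩
  rw [Subgroup.orderOf_mk] at hk
  refine isPPart_of_commute (hc u hu h hh).symm hk fun hd => hH ?_
  rw [← Subgroup.orderOf_mk h hh] at hd
  exact hd.trans (orderOf_dvd_natCard _)

theorem pp_mul_of_mem {Q H : Subgroup G} (hQ : IsPGroup p Q) (hH : ¬ p ∣ Nat.card H)
    (hc : ∀ u ∈ Q, ∀ h ∈ H, h * u = u * h) {g g' : G} (hg : g ∈ Q ⊔ H) (hg' : g' ∈ Q ⊔ H) :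
    pp p (g * g') = pp p g * pp p g' := by
  obtain ⟨u, hu, h, hh, rfl, e1⟩ := exists_split_mem hQ hH hc hg
  obtain ⟨v, hv, k, hk, rfl, e2⟩ := exists_split_mem hQ hH hc hg'
  rw [e1, e2]
  refine pp_eq ?_
  rw [show u * h * (v * k) = u * v * (h * k) by
    rw [mul_assoc u h, ← mul_assoc h, hc v hv h hh]; simp only [mul_assoc]]
  obtain ⟨j, hj⟩ := IsPGroup.iff_orderOf.1 hQ ⟨u * v, Q.mul_mem hu hv⟩
  rw [Subgroup.orderOf_mk] at hj
  refine isPPart_of_commute (hc _ (Q.mul_mem hu hv) _ (H.mul_mem hh hk)).symm hj fun hd => hH ?_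
  rw [← Subgroup.orderOf_mk _ (H.mul_mem hh hk)] at hd
  exact hd.trans (orderOf_dvd_natCard _)

omit [Fact p.Prime] [CharP (ResField M) p] in
theorem exists_mul_blks_ne_zero {C : Subgroup G} {t : MonoidAlgebra (ResField M) G} (ht : t ≠ 0) :
    ∃ f, IsBlockIdem C f ∧ t * f ≠ 0 := by
  by_contra hc
  push Not at hc
  apply ht
  rw [← mul_one t, ← sum_blks C, Finset.mul_sum]
  exact Finset.sum_eq_zero fun f hf => hc f (mem_blks.1 hf)

/-- The primitive case with nonzero Brauer image. -/
theorem isGeneralizedCharacter_Theta_of_trunc_ne_zero (hM : Cfsg.IsPModular p M)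
    (D : TwistData p B P e lam) (hχ : Cfsg.IsCharacter G χ) {Q H : Subgroup G}
    (hQ : IsPGroup p Q) (hH : ¬ p ∣ Nat.card H) (hc : ∀ u ∈ Q, ∀ h ∈ H, h * u = u * h)
    (x : fixAlg M ((Q ⊔ H : Subgroup G) : Set G)) (hx : IsPrim x)
    (hB : (x : MonoidAlgebra (ResField M) G) * B = x)
    (h0 : trunc Q (x : MonoidAlgebra (ResField M) G) ≠ 0) :
    Cfsg.IsGeneralizedCharacter ↥(Q ⊔ H)
      (fun g : ↥(Q ⊔ H) => Theta p P e lam χ (x : MonoidAlgebra (ResField M) G) (g : G)) := by
  have hχc := CfsgLib.Char.IsCharacter.isClassFunction hχ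
  set ε := (x : MonoidAlgebra (ResField M) G) with hεdef
  have hεi : IsIdempotentElem ε := congrArg Subtype.val hx.idem.eq
  obtain ⟨fQ, hfQ, hne⟩ := exists_mul_blks_ne_zero (C := Subgroup.centralizer (Q : Set G)) h0
  have hQK : Q ≤ Q ⊔ H := le_sup_left
  have hεQ : ConjFixed Q ε := (conjFixed_of_fixAlg x.2).mono hQK
  have hBc : InCenter (⊤ : Subgroup G) B := D.pair.blockB.mem
  have hpair : PairOf p B Q fQ := by
    refine ⟨D.pair.blockB, ⟨hQ, hfQ⟩, ?_⟩
    obtain ⟨h1, h2⟩ := And.intro (trunc_inCenter (P := Q) (hBc.conjFixed_top _))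
      (show trunc Q B * trunc Q B = trunc Q B by
        rw [← trunc_mul hQ (hBc.conjFixed_top _) (hBc.conjFixed_top _), D.pair.blockB.idem])
    refine (hfQ.prim _ h1 h2).resolve_right fun h => hne ?_
    rw [← hB, trunc_mul hQ hεQ (hBc.conjFixed_top _), mul_assoc, h, mul_zero]
  obtain ⟨g0, hg0⟩ := exists_conj_sle D.pair D.noExt hpair
  have hab : ∀ a ∈ Q, ∀ b ∈ Q, a * b = b * a := by
    intro a ha b hb
    have := D.comm _ (hg0.le ⟨a, ha, rfl⟩) _ (hg0.le ⟨b, hb, rfl⟩)
    rw [← map_mul, ← map_mul] at this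
    exact (MulAut.conj g0).injective this
  have hKC : ∀ v ∈ Q, (Q ⊔ H : Subgroup G) ≤
      Subgroup.centralizer (Subgroup.zpowers v : Set G) := fun v hv => sup_le
    (fun a ha => mem_centralizer_zpowers_iff.2 (hab a ha v hv))
    (fun a ha => mem_centralizer_zpowers_iff.2 (hc v hv a ha))
  have hppQ : ∀ g : ↥(Q ⊔ H), pp p (g : G) ∈ Q := fun g => by
    obtain ⟨u, hu, -, -, -, e1⟩ := exists_split_mem hQ hH hc g.2
    rwa [e1]
  let φ : ↥(Q ⊔ H) →* P :=
    { toFun := fun g => ⟨g0 * pp p (g : G) * g0⁻¹, hg0.le ⟨_, hppQ g, rfl⟩⟩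
      map_one' := Subtype.ext (by
        show g0 * pp p (1 : G) * g0⁻¹ = 1
        rw [pp_eq (x := 1) (isPPart_one_of_regular (by
          rw [orderOf_one]; exact (Fact.out : p.Prime).not_dvd_one)), mul_one, mul_inv_cancel])
      map_mul' := fun g g' => Subtype.ext (by
        show g0 * pp p ((g : G) * (g' : G)) * g0⁻¹ =
          g0 * pp p (g : G) * g0⁻¹ * (g0 * pp p (g' : G) * g0⁻¹)
        rw [pp_mul_of_mem hQ hH hc g.2 g'.2]
        group) }
  have hval : ∀ g : ↥(Q ⊔ H), Theta p P e lam χ ε (g : G) = lam (φ g : G) * hat χ (g : G) ε := by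
    rintro ⟨g, hg⟩
    obtain ⟨u, hu, h, hh, rfl, hpp⟩ := exists_split_mem hQ hH hc hg
    have huQ : Subgroup.zpowers u ≤ Q := Subgroup.zpowers_le.2 hu
    have hup : IsPGroup p (Subgroup.zpowers u) := hQ.to_le huQ
    obtain ⟨f0, hf0⟩ := exists_ns hpair.pair huQ
      ((le_sup_left.trans (hKC u hu)).trans (Subgroup.centralizer_le_normalizer _))
    have huK : u ∈ ((Q ⊔ H : Subgroup G) : Set G) := hQK hu
    let π := brU (M := M) huK hup
    set t : MonoidAlgebra (ResField M) G → MonoidAlgebra (ResField M) G := fun f =>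
      trunc (Subgroup.zpowers u) ε * f with ht
    have htdich : ∀ f, IsBlockIdem (Subgroup.centralizer (Subgroup.zpowers u : Set G)) f →
        t f = 0 ∨ t f = trunc (Subgroup.zpowers u) ε := by
      intro f hf
      have hfA : f ∈ fixAlg M ((Q ⊔ H : Subgroup G) : Set G) :=
        mem_fixAlg_of_inCenter hf.mem (hKC u hu)
      have hπf : π ⟨f, hfA⟩ = f := trunc_eq_self hf.mem.supp
      have hcomm : trunc (Subgroup.zpowers u) ε * f = f * trunc (Subgroup.zpowers u) ε :=
        mul_comm_of_suppIn (trunc_suppIn _ _) hf.mem.fixed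
      have hπx : π x = trunc (Subgroup.zpowers u) ε := rfl
      have hti : IsIdempotentElem (t f) := by
        refine IsIdempotentElem.mul_of_commute hcomm ?_ hf.idem
        rw [← hπx]
        exact hx.idem.map π
      have hs : π (x * ⟨f, hfA⟩ * x) = t f := by
        rw [map_mul, map_mul, hπx, hπf, ht]
        show trunc _ ε * f * trunc _ ε = trunc _ ε * f
        rw [mul_assoc, ← hcomm, ← mul_assoc, ← hπx, (hx.idem.map π).eq]
      rcases hx.dichotomy (k := ResField M) (s := x * ⟨f, hfA⟩ * x)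
        (by rw [← mul_assoc, ← mul_assoc, hx.idem.eq]) (by rw [mul_assoc, hx.idem.eq]) with
        hnil | ⟨z, -, -, hz, -⟩
      · left
        exact hti.eq_zero_of_isNilpotent (hs ▸ hnil.map π)
      · right
        have h1 := congrArg π hz
        rw [map_mul, hs, hπx] at h1
        calc t f = t f * trunc (Subgroup.zpowers u) ε := by
              rw [ht]
              show trunc _ ε * f = trunc _ ε * f * trunc _ ε
              rw [mul_assoc, ← hcomm, ← mul_assoc, ← hπx, (hx.idem.map π).eq]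
          _ = t f * (t f * π z) := by rw [h1]
          _ = trunc (Subgroup.zpowers u) ε := by rw [← mul_assoc, hti.eq, h1]
    have ht0 : t f0 = trunc (Subgroup.zpowers u) ε := by
      refine (htdich f0 hf0.pairQ.block).resolve_left fun h1 => hne ?_
      have h2 := congrArg (fun z => trunc Q z * fQ) h1
      simp only [ht, trunc_zero, zero_mul] at h2
      rwa [trunc_mul hQ (conjFixed_iff.2 fun a ha => ?_) hf0.fix, trunc_trunc huQ, mul_assoc,
        hf0.br] at h2
      exact mem_fixAlg.1 (trunc_mem_fixAlg (Q := Subgroup.zpowers u)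
        ((hKC u hu).trans (Subgroup.centralizer_le_normalizer _)) x.2) a (hQK ha)
    have hother : ∀ f ∈ blks (Subgroup.centralizer (Subgroup.zpowers u : Set G)), f ≠ f0 →
        t f = 0 := by
      intro f hf hff
      rcases htdich f (mem_blks.1 hf) with h1 | h1
      · exact h1
      · simp only [ht] at h1
        show trunc _ ε * f = 0
        rw [h1]
        calc trunc (Subgroup.zpowers u) ε = trunc (Subgroup.zpowers u) ε * f0 := ht0.symm
          _ = trunc (Subgroup.zpowers u) ε * f * f0 := by rw [h1]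
          _ = 0 := by rw [mul_assoc, (mem_blks.1 hf).mul_eq_zero hf0.pairQ.block hff, mul_zero]
    show Theta p P e lam χ ε (u * h) = lam (g0 * pp p (u * h) * g0⁻¹) * hat χ (u * h) ε
    rw [Theta, hpp, Finset.sum_eq_single f0]
    · have hgε : conjA (u * h) ε = ε := mem_fixAlg.1 x.2 _ hg
      have hgu : conjA (u * h) (trunc (Subgroup.zpowers u) ε) = trunc (Subgroup.zpowers u) ε :=
        mem_fixAlg.1 (trunc_mem_fixAlg (Q := Subgroup.zpowers u)
          ((hKC u hu).trans (Subgroup.centralizer_le_normalizer _)) x.2) _ hg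
      have hw : wt p P e lam u f0 = lam (g0 * u * g0⁻¹) := by
        refine wt_eq hM D ?_
        rw [← conjSub_zpowers_eq]
        exact (hf0.conj g0).sle.trans hg0
      have ht0' : trunc (Subgroup.zpowers u) ε * f0 = trunc (Subgroup.zpowers u) ε := ht0
      rw [ht0', hw, hat_eq_of_trunc_eq hM.2.2 hχc (u := u) (by have := pp_spec (p := p) (u * h); rwa [hpp] at this)
        (show IsIdempotentElem (trunc (Subgroup.zpowers u) ε) from hx.idem.map π) hεi hgu hgε
        (trunc_trunc le_rfl ε)]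
    · intro f hf hff
      rw [show trunc (Subgroup.zpowers u) ε * f = 0 from hother f hf hff, hat_zero hχc, mul_zero]
    · exact fun h1 => absurd (mem_blks.2 hf0.pairQ.block) h1
  have hfun : (fun g : ↥(Q ⊔ H) => Theta p P e lam χ ε (g : G)) =
      (fun g => lam (φ g : G)) * fun g : ↥(Q ⊔ H) => hat χ (g : G) ε :=
    funext hval
  rw [hfun]
  exact CfsgLib.Char.IsGeneralizedCharacter.mul
    (CfsgLib.Char.IsGeneralizedCharacter.comp D.genChar φ)
    (CfsgLib.Char.IsCharacter.isGeneralizedCharacter (isCharacter_hat hχ hεi x.2))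

theorem IsPrim.exists_not_nilpotent {k A : Type*} [Field k] [Ring A] [Algebra k A]
    [FiniteDimensional k A] {e : A} (he : IsPrim e) (h0 : e ≠ 0) {ι : Type*} (s : Finset ι)
    (f : ι → A) (hf : ∀ i ∈ s, e * f i = f i ∧ f i * e = f i) {z : A} (hz : e * z = z)
    (hz' : z * e = z) (hsum : (∑ i ∈ s, f i) * z = e) : ∃ i ∈ s, ¬ IsNilpotent (f i) := by
  induction s using Finset.induction_on generalizing z with
  | empty => rw [Finset.sum_empty, zero_mul] at hsum; exact absurd hsum.symm h0
  | @insert a t ha ih =>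
    by_cases hn : IsNilpotent (f a)
    swap
    · exact ⟨a, Finset.mem_insert_self a t, hn⟩
    set r := ∑ i ∈ t, f i with hr
    have hr1 : e * r = r := by
      rw [hr, Finset.mul_sum]
      exact Finset.sum_congr rfl fun i hi => (hf i (Finset.mem_insert_of_mem hi)).1
    have hr2 : r * e = r := by
      rw [hr, Finset.sum_mul]
      exact Finset.sum_congr rfl fun i hi => (hf i (Finset.mem_insert_of_mem hi)).2
    rcases he.dichotomy (k := k) hr1 hr2 with hrn | ⟨w, hw1, hw2, hw3, -⟩
    · exfalso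
      -- `f a * z = e - r * z` would be invertible
      obtain ⟨hfa1, hfa2⟩ := hf a (Finset.mem_insert_self a t)
      rw [Finset.sum_insert ha, ← hr, add_mul] at hsum
      rcases he.dichotomy (k := k) (s := r * z) (by rw [← mul_assoc, hr1])
          (by rw [mul_assoc, hz']) with hrz | ⟨w, -, -, hw, -⟩
      · obtain ⟨m, hm⟩ := hrz
        have hgeom : f a * z * (∑ j ∈ Finset.range (m + 1), e * (r * z) ^ j) = e := by
          have h1 : (e - r * z) * ∑ j ∈ Finset.range (m + 1), e * (r * z) ^ j = e := by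
            have hz2 : ∀ j : ℕ, (e - r * z) * (e * (r * z) ^ j) =
                e * (r * z) ^ j - e * (r * z) ^ (j + 1) := fun j => by
              have e1 : e * (r * z) = r * z := by rw [← mul_assoc, hr1]
              have e2 : r * z * e = r * z := by rw [mul_assoc, hz']
              rw [sub_mul, ← mul_assoc e e, he.idem.eq, ← mul_assoc (r * z) e, e2, pow_succ',
                ← mul_assoc e (r * z), e1]
            rw [Finset.mul_sum, Finset.sum_congr rfl fun j _ => hz2 j,
              Finset.sum_range_sub' (fun j => e * (r * z) ^ j), pow_zero, mul_one, pow_succ, hm,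
              zero_mul, mul_zero, sub_zero]
          have e1 : e - r * z = f a * z := sub_eq_iff_eq_add.2 hsum.symm
          rwa [e1] at h1
        obtain ⟨n, hn'⟩ := hn
        apply h0
        set w' := z * ∑ j ∈ Finset.range (m + 1), e * (r * z) ^ j
        have hw' : f a * w' = e := by rw [← hgeom, mul_assoc]
        have hp : ∀ j : ℕ, f a ^ j * e = 0 → e = 0 := by
          intro j
          induction j with
          | zero => intro h; rwa [pow_zero, one_mul] at h
          | succ j ihj =>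
            intro h
            refine ihj ?_
            rw [pow_succ, mul_assoc, hfa2] at h
            calc f a ^ j * e = f a ^ j * (f a * w') := by rw [hw']
              _ = f a ^ j * f a * w' := (mul_assoc _ _ _).symm
              _ = 0 := by rw [h, zero_mul]
        exact hp n (by rw [hn', zero_mul])
      · apply h0
        obtain ⟨n, hn'⟩ := hrn
        have hp : ∀ j : ℕ, r ^ j * e = 0 → e = 0 := by
          intro j
          induction j with
          | zero => intro h; rwa [pow_zero, one_mul] at h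
          | succ j ihj =>
            intro h
            refine ihj ?_
            rw [pow_succ, mul_assoc, hr2] at h
            calc r ^ j * e = r ^ j * (r * z * w) := by rw [hw]
              _ = r ^ j * r * (z * w) := by simp only [mul_assoc]
              _ = 0 := by rw [h, zero_mul]
        exact hp n (by rw [hn', zero_mul])
    · obtain ⟨i, hi, hin⟩ := ih (fun i hi => hf i (Finset.mem_insert_of_mem hi)) hw1 hw2 hw3
      exact ⟨i, Finset.mem_insert_of_mem hi, hin⟩

/-- Conjugation by a normalizing element, on a fixed algebra. -/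
noncomputable def conjFix {K : Subgroup G} {q : G}
    (hq : q ∈ Subgroup.normalizer (K : Set G)) :
    fixAlg M (K : Set G) ≃ₐ[ResField M] fixAlg M (K : Set G) where
  toFun x := ⟨conjA q x.1, mem_fixAlg.2 fun n hn => by
    have h : q⁻¹ * n * q ∈ K := (Subgroup.mem_normalizer_iff''.1 hq n).1 hn
    rw [conjA_conjA, show n * q = q * (q⁻¹ * n * q) by group, ← conjA_conjA,
      mem_fixAlg.1 x.2 _ h]⟩
  invFun x := ⟨conjA q⁻¹ x.1, mem_fixAlg.2 fun n hn => by
    have h : q * n * q⁻¹ ∈ K := (Subgroup.mem_normalizer_iff.1 hq n).1 hn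
    rw [conjA_conjA, show n * q⁻¹ = q⁻¹ * (q * n * q⁻¹) by group, ← conjA_conjA,
      mem_fixAlg.1 x.2 _ h]⟩
  left_inv x := Subtype.ext (by
    show conjA q⁻¹ (conjA q x.1) = x.1
    rw [conjA_conjA, inv_mul_cancel, conjA_one])
  right_inv x := Subtype.ext (by
    show conjA q (conjA q⁻¹ x.1) = x.1
    rw [conjA_conjA, mul_inv_cancel, conjA_one])
  map_mul' x y := Subtype.ext (conjA_mul q x.1 y.1)
  map_add' x y := Subtype.ext (conjA_add q x.1 y.1)
  commutes' r := Subtype.ext (by
    show conjA q (algebraMap (ResField M) (MonoidAlgebra (ResField M) G) r) = algebraMap _ _ r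
    rw [conjA_eq_single, mul_assoc, (Algebra.commutes r _), ← mul_assoc,
      MonoidAlgebra.single_mul_single, mul_inv_cancel, one_mul, ← MonoidAlgebra.one_def, one_mul])

theorem conjFix_iterate {K : Subgroup G} {q : G} (hq : q ∈ Subgroup.normalizer (K : Set G))
    (x : fixAlg M (K : Set G)) (l : ℕ) :
    (((⇑(conjFix (M := M) hq))^[l] x : fixAlg M (K : Set G)) : MonoidAlgebra (ResField M) G) =
      conjA (q ^ l) x.1 := by
  induction l with
  | zero => simp
  | succ l ih =>
    rw [Function.iterate_succ_apply', pow_succ', ← conjA_conjA, ← ih]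
    rfl

/-- **The twist is a generalized character on a product of a `p`-group and a `p'`-group.** -/
theorem isGeneralizedCharacter_Theta (hM : Cfsg.IsPModular p M)
    (D : TwistData p B P e lam) (hχ : Cfsg.IsCharacter G χ) (Q H : Subgroup G)
    (hQ : IsPGroup p Q) (hH : ¬ p ∣ Nat.card H) (hc : ∀ u ∈ Q, ∀ h ∈ H, h * u = u * h)
    (x : fixAlg M ((Q ⊔ H : Subgroup G) : Set G)) (hxi : IsIdempotentElem x) :
    Cfsg.IsGeneralizedCharacter ↥(Q ⊔ H)
      (fun g : ↥(Q ⊔ H) => Theta p P e lam χ (x : MonoidAlgebra (ResField M) G) (g : G)) := by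
  generalize hn : Nat.card Q = n
  induction n using Nat.strong_induction_on generalizing Q x with
  | _ n ih =>
  have hχc := CfsgLib.Char.IsCharacter.isClassFunction hχ
  refine idem_induction (k := ResField M) (motive := fun y : fixAlg M ((Q ⊔ H : Subgroup G) : Set G)
      => Cfsg.IsGeneralizedCharacter ↥(Q ⊔ H)
        (fun g : ↥(Q ⊔ H) => Theta p P e lam χ (y : MonoidAlgebra (ResField M) G) (g : G)))
    ?_ ?_ ?_ hxi
  · convert CfsgLib.Char.IsGeneralizedCharacter.zero (G := ↥(Q ⊔ H)) using 1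
    exact funext fun g => Theta_zero hχc _
  swap
  · intro a b ha hb h1 h2 iha ihb
    convert CfsgLib.Char.IsGeneralizedCharacter.add iha ihb using 1
    exact funext fun g => (isIdemFun_Theta (p := p) (P := P) (e := e) (lam := lam) hχc g.2).add a b ha hb h1 h2
  intro y hy hy0
  set ε := (y : MonoidAlgebra (ResField M) G) with hεdef
  have hBc : InCenter (⊤ : Subgroup G) B := D.pair.blockB.mem
  have hBA : B ∈ fixAlg M ((Q ⊔ H : Subgroup G) : Set G) := mem_fixAlg_of_inCenter hBc (by simp)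
  have hcB : ∀ a, a * B = B * a := fun a => (mul_comm_of_suppIn (a := a)
    (fun g hg => absurd (Subgroup.mem_top g) hg) hBc.fixed)
  have hyB : IsIdempotentElem (y * ⟨B, hBA⟩) :=
    hy.idem.mul_of_commute (Subtype.ext (hcB _)) (Subtype.ext D.pair.blockB.idem)
  rcases hy.prim _ hyB (by rw [← mul_assoc, hy.idem.eq])
    (by rw [mul_assoc, show (⟨B, hBA⟩ : fixAlg M _) * y = y * ⟨B, hBA⟩ from
      (Subtype.ext (hcB _)).symm, ← mul_assoc, hy.idem.eq]) with h | h
  · have hεB : ε * B = 0 := congrArg Subtype.val h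
    convert CfsgLib.Char.IsGeneralizedCharacter.zero (G := ↥(Q ⊔ H)) using 1
    funext g
    rw [← Theta_mul_block (lam := lam) (χ := χ) D (mem_fixAlg.1 y.2 _ g.2), hεB, Theta_zero hχc]
    rfl
  have hεB : ε * B = ε := congrArg Subtype.val h
  by_cases h0 : trunc Q ε = 0
  swap
  · exact isGeneralizedCharacter_Theta_of_trunc_ne_zero hM D hχ hQ hH hc y hy hεB h0
  obtain ⟨ι, q, a, ha, hsum⟩ := exists_relTrace_decomp hQ hH hc y.2 h0
  replace hsum : ε = ∑ N ∈ ι, ∑ l ∈ Finset.range p, conjA (q N ^ l) (a N) := hsum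
  have hεi : IsIdempotentElem ε := congrArg Subtype.val hy.idem.eq
  have hnorm : ∀ N ∈ ι, q N ∈ Subgroup.normalizer ((N ⊔ H : Subgroup G) : Set G) := by
    intro N hN
    have hs := (ha N hN).1
    have key : ∀ t ∈ Q, ∀ g ∈ N ⊔ H, t * g * t⁻¹ ∈ N ⊔ H := by
      intro t ht g hg
      have hle : (N ⊔ H : Subgroup G) ≤ (N ⊔ H).comap (MulAut.conj t).toMonoidHom := by
        refine sup_le (fun n hn => ?_) fun k hk => ?_
        · exact (le_sup_left : N ≤ N ⊔ H) (hs.conj t ht n hn)
        · show t * k * t⁻¹ ∈ N ⊔ H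
          rw [← hc t ht k hk, mul_inv_cancel_right]
          exact (le_sup_right : H ≤ N ⊔ H) hk
      exact hle hg
    rw [Subgroup.mem_normalizer_iff]
    intro g
    refine ⟨key _ hs.mem g, fun hg => ?_⟩
    have := key _ (Q.inv_mem hs.mem) _ hg
    simpa [mul_assoc] using this
  have hsupK : ∀ N ∈ ι, (N ⊔ H : Subgroup G) ≤ Q ⊔ H := fun N hN =>
    sup_le_sup_right (ha N hN).1.le H
  let T : Subgroup G → MonoidAlgebra (ResField M) G := fun N =>
    ∑ l ∈ Finset.range p, conjA (q N ^ l) (ε * a N * ε)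
  have hqε : ∀ N ∈ ι, ∀ l : ℕ, conjA (q N ^ l) ε = ε := fun N hN l =>
    mem_fixAlg.1 y.2 _ ((le_sup_left : Q ≤ Q ⊔ H) (Q.pow_mem (ha N hN).1.mem l))
  have hsandwich : ε = ∑ N ∈ ι, T N := by
    calc ε = ε * ε * ε := by rw [hεi.eq, hεi.eq]
      _ = ε * (∑ N ∈ ι, ∑ l ∈ Finset.range p, conjA (q N ^ l) (a N)) * ε := by
          conv_lhs => arg 1; arg 2; rw [hsum]
      _ = _ := by
          rw [Finset.mul_sum, Finset.sum_mul]
          refine Finset.sum_congr rfl fun N hN => ?_
          rw [Finset.mul_sum, Finset.sum_mul]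
          refine Finset.sum_congr rfl fun l _ => ?_
          rw [conjA_mul, conjA_mul, hqε N hN l]
  have hTmem : ∀ N ∈ ι, T N ∈ fixAlg M ((Q ⊔ H : Subgroup G) : Set G) := by
    intro N hN
    obtain ⟨hs, haN⟩ := ha N hN
    have hN' : ε * a N * ε ∈ fixAlg M ((N ⊔ H : Subgroup G) : Set G) :=
      mul_mem (mul_mem (fixAlg_anti (hsupK N hN) y.2) haN) (fixAlg_anti (hsupK N hN) y.2)
    have hle : (Q ⊔ H : Subgroup G) ≤ stabA (T N) := by
      refine sup_le (fun t ht => ?_) fun k hk => ?_
      · -- translation permutes the cosets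
        show conjA t (T N) = T N
        rw [conjA_sum]
        have hstep : ∀ l, ∃ j, j < p ∧ (q N ^ j)⁻¹ * (t * q N ^ l) ∈ N := fun l =>
          hs.cover _ (Q.mul_mem ht (Q.pow_mem hs.mem l))
        choose σ hσp hσ using hstep
        have hinj : Set.InjOn σ (Finset.range p : Set ℕ) := by
          intro i hi j hj hij
          refine hs.inj i j (Finset.mem_range.1 hi) (Finset.mem_range.1 hj) (t⁻¹ * q N ^ σ i) ?_ ?_
          · have := N.inv_mem (hσ i)
            simpa [mul_assoc] using this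
          · rw [hij]
            have := N.inv_mem (hσ j)
            simpa [mul_assoc] using this
        refine Finset.sum_bij (fun l _ => σ l) (fun l _ => Finset.mem_range.2 (hσp l))
          (fun i hi j hj hij => hinj hi hj hij) (fun j hj => ?_) fun l _ => ?_
        · have himg : (Finset.range p).image σ = Finset.range p := Finset.eq_of_subset_of_card_le
            (Finset.image_subset_iff.2 fun l _ => Finset.mem_range.2 (hσp l))
            (by rw [Finset.card_image_of_injOn hinj])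
          rw [← himg, Finset.mem_image] at hj
          obtain ⟨l, hl, hlj⟩ := hj
          exact ⟨l, hl, hlj⟩
        · have hm : t * q N ^ l = q N ^ σ l * ((q N ^ σ l)⁻¹ * (t * q N ^ l)) := by group
          rw [conjA_conjA, hm, ← conjA_conjA,
            mem_fixAlg.1 hN' _ ((le_sup_left : N ≤ N ⊔ H) (hσ l))]
      · show conjA k (T N) = T N
        rw [conjA_sum]
        refine Finset.sum_congr rfl fun l _ => ?_
        rw [conjA_conjA, hc _ (Q.pow_mem hs.mem l) k hk, ← conjA_conjA,
          mem_fixAlg.1 hN' _ ((le_sup_right : H ≤ N ⊔ H) hk)]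
    exact mem_fixAlg.2 fun g hg => hle hg
  let T' : Subgroup G → fixAlg M ((Q ⊔ H : Subgroup G) : Set G) := fun N =>
    if h : N ∈ ι then ⟨T N, hTmem N h⟩ else 0
  have hTε : ∀ N ∈ ι, ε * T N = T N ∧ T N * ε = T N := by
    intro N hN
    constructor
    · rw [Finset.mul_sum]
      refine Finset.sum_congr rfl fun l _ => ?_
      rw [conjA_mul, conjA_mul, hqε N hN l, ← mul_assoc, ← mul_assoc, hεi.eq]
    · rw [Finset.sum_mul]
      refine Finset.sum_congr rfl fun l _ => ?_
      rw [conjA_mul, conjA_mul, hqε N hN l, mul_assoc, hεi.eq]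
  obtain ⟨N, hN, hnn⟩ := hy.exists_not_nilpotent (k := ResField M) hy0 ι T' (fun N hN => by
      simp only [T', dif_pos hN]
      exact ⟨Subtype.ext (hTε N hN).1, Subtype.ext (hTε N hN).2⟩) hy.idem.eq hy.idem.eq (by
      have : (∑ N ∈ ι, T' N) = y := Subtype.ext (by
        rw [AddSubmonoidClass.coe_finsetSum]
        refine Eq.trans (Finset.sum_congr rfl fun N hN => ?_) hsandwich.symm
        simp only [T', dif_pos hN])
      rw [this, hy.idem.eq])
  simp only [T', dif_pos hN] at hnn
  obtain ⟨w, -, hw2, hw, -⟩ := (hy.dichotomy (k := ResField M)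
    (s := (⟨T N, hTmem N hN⟩ : fixAlg M ((Q ⊔ H : Subgroup G) : Set G)))
    (Subtype.ext (hTε N hN).1) (Subtype.ext (hTε N hN).2)).resolve_left hnn
  obtain ⟨hs, haN⟩ := ha N hN
  -- `ε` is a relative trace
  set K' := N ⊔ H with hK'
  let a' : fixAlg M ((N ⊔ H : Subgroup G) : Set G) := ⟨ε * a N * ε * w.1,
    mul_mem (mul_mem (mul_mem (fixAlg_anti (hsupK N hN) y.2) haN) (fixAlg_anti (hsupK N hN) y.2))
      (fixAlg_anti (hsupK N hN) w.2)⟩
  have htr : ε = ∑ l ∈ Finset.range p, conjA (q N ^ l) a'.1 := by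
    refine ((congrArg Subtype.val hw).symm.trans ?_)
    show T N * w.1 = _
    rw [Finset.sum_mul]
    refine Finset.sum_congr rfl fun l _ => ?_
    rw [conjA_mul (q N ^ l) (ε * a N * ε) w.1,
      mem_fixAlg.1 w.2 _ ((le_sup_left : Q ≤ Q ⊔ H) (Q.pow_mem hs.mem l))]
  have hcN : ∀ u ∈ N, ∀ h ∈ H, h * u = u * h := fun u hu => hc u (hs.le hu)
  have hlt : Nat.card N < n := hn ▸ Pairs.card_lt_of_lt (lt_of_le_of_ne hs.le fun h =>
    hs.notMem (h ▸ hs.mem))
  have IH : ∀ z : fixAlg M (K' : Set G), IsIdempotentElem z →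
      Cfsg.IsGeneralizedCharacter K' (fun g : K' => Theta p P e lam χ z.1 (g : G)) := fun z hz =>
    ih _ hlt N (hQ.to_le hs.le) hcN z hz rfl
  haveI := Fintype.ofFinite ↥(Q ⊔ H)
  refine isGeneralizedCharacter_of_integral (fun g t => ?_) fun ψ => ?_
  · show Theta p P e lam χ ε ((t : G) * g * (t : G)⁻¹) = Theta p P e lam χ ε (g : G)
    have hfix : conjA (t : G) ε = ε := mem_fixAlg.1 y.2 _ t.2
    exact (congrArg (fun z => Theta p P e lam χ z ((t : G) * g * (t : G)⁻¹)) hfix).symm.trans
      (Theta_conj hM D hχc (t : G) hεi (mem_fixAlg.1 y.2 _ g.2))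
  haveI := Fintype.ofFinite K'
  let ψ' : K' → ℂ := fun g => (ψ : ↥(Q ⊔ H) → ℂ) ⟨g, hsupK N hN g.2⟩
  have hψ' : Cfsg.IsCharacter K' ψ' :=
    CfsgLib.Char.IsCharacter.comp (CfsgLib.Char.IsIrrCharacter.isCharacter ψ.2)
      (Subgroup.inclusion (hsupK N hN))
  let I : fixAlg M (K' : Set G) → ℂ := fun z =>
    Cfsg.classInner (fun g : K' => Theta p P e lam χ z.1 (g : G)) ψ'
  choose m hm using fun z : fixAlg M (K' : Set G) =>
    show ∃ i : ℤ, IsIdempotentElem z → I z = i from
    if hz : IsIdempotentElem z then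
      (exists_int_classInner (IH z hz) hψ').imp fun i hi _ => hi
    else ⟨0, fun h => absurd h hz⟩
  have hI : IsIdemFun (V := ℂ) I := by
    refine ⟨fun u v hu U huv => ?_, fun u v hu hv h1 h2 => ?_⟩
    · simp only [I]
      congr 1
      exact funext fun g => (isIdemFun_Theta hχc g.2).conj u v hu U huv
    · simp only [I]
      rw [← CfsgLib.Char.classInner_add_left]
      congr 1
      exact funext fun g => (isIdemFun_Theta hχc g.2).add u v hu hv h1 h2
  have hidem_conj : ∀ {z v : fixAlg M (K' : Set G)} (U : (fixAlg M (K' : Set G))ˣ),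
      IsIdempotentElem z → z * U.val = U.val * v → IsIdempotentElem v := by
    intro z v U hz hzv
    have e1 : v = (U⁻¹).val * z * U.val := by rw [mul_assoc, hzv, Units.inv_mul_cancel_left]
    rw [e1]
    show _ = _
    rw [show (U⁻¹).val * z * U.val * ((U⁻¹).val * z * U.val) =
      (U⁻¹).val * (z * (U.val * (U⁻¹).val) * z) * U.val by simp only [mul_assoc],
      Units.mul_inv, mul_one, hz.eq]
  have hmI : IsIdemFun m := by
    refine ⟨fun u v hu U huv => ?_, fun u v hu hv h1 h2 => ?_⟩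
    · have h := hI.conj u v hu U huv
      rw [hm u hu, hm v (hidem_conj U hu huv)] at h
      exact_mod_cast h
    · have huv : IsIdempotentElem (u + v) := by
        show _ = _
        rw [mul_add, add_mul, add_mul, hu.eq, hv.eq, h1, h2, add_zero, zero_add]
      have h := hI.add u v hu hv h1 h2
      rw [hm u hu, hm v hv, hm _ huv] at h
      exact_mod_cast h
  let σ := conjFix (M := M) (hnorm N hN)
  have hψc := CfsgLib.Char.IsIrrCharacter.isClassFunction ψ.2
  have hqK : q N ∈ Q ⊔ H := (le_sup_left : Q ≤ Q ⊔ H) hs.mem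
  have hinv : ∀ z, IsIdempotentElem z → m (σ z) = m z := by
    intro z hz
    have h : I (σ z) = I z := by
      simp only [I, Cfsg.classInner]
      congr 1
      let cq : K' ≃ K' :=
        { toFun := fun g => ⟨q N * g * (q N)⁻¹, (Subgroup.mem_normalizer_iff.1 (hnorm N hN) g).1 g.2⟩
          invFun := fun g => ⟨(q N)⁻¹ * g * q N,
            (Subgroup.mem_normalizer_iff''.1 (hnorm N hN) g).1 g.2⟩
          left_inv := fun g => Subtype.ext (by simp [mul_assoc])
          right_inv := fun g => Subtype.ext (by simp [mul_assoc]) }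
      refine (Fintype.sum_equiv cq _ _ fun g => ?_).symm
      have hzi : IsIdempotentElem z.1 := congrArg Subtype.val hz.eq
      show _ = Theta p P e lam χ (conjA (q N) z.1) (q N * g * (q N)⁻¹) * conj (ψ' (cq g))
      rw [Theta_conj hM D hχc (q N) hzi (mem_fixAlg.1 z.2 _ g.2)]
      congr 2
      exact (hψc ⟨g, hsupK N hN g.2⟩ ⟨q N, hqK⟩).symm
    rw [hm z hz, hm _ (hz.map σ)] at h
    exact_mod_cast h
  let y' : fixAlg M (K' : Set G) := ⟨ε, fixAlg_anti (hsupK N hN) y.2⟩
  have hy' : IsIdempotentElem y' := Subtype.ext hεi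
  haveI := isAlgClosed_resField (M := M)
  have hdvd := dvd_of_trace_eq (k := ResField M) (p := p) σ (a := a') hy' (by
    apply Subtype.ext
    rw [AddSubmonoidClass.coe_finsetSum]
    simp only [σ, conjFix_iterate]
    exact htr.symm) hmI hinv
  obtain ⟨c, hc'⟩ := hdvd
  refine ⟨c, ?_⟩
  have hout : ∀ g : ↥(Q ⊔ H), (g : G) ∉ K' → Theta p P e lam χ ε (g : G) = 0 := by
    rintro ⟨g, hg⟩ hgK
    obtain ⟨u, hu, h, hh, rfl, hpp⟩ := exists_split_mem hQ hH hc hg
    have huN : u ∉ N := fun h1 => hgK (K'.mul_mem ((le_sup_left : N ≤ N ⊔ H) h1)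
      ((le_sup_right : H ≤ N ⊔ H) hh))
    have hzero : trunc (Subgroup.zpowers u) ε = 0 := by
      refine MonoidAlgebra.ext (Finsupp.ext fun c => ?_)
      rw [coeff_trunc]
      split_ifs with hcc
      swap
      · simp
      have hcu : Commute c u := mem_centralizer_zpowers_iff.1 hcc
      obtain ⟨j, hj, hju⟩ := hs.cover u hu
      have hj0 : j ≠ 0 := fun h1 => huN (by simpa [h1] using hju)
      rw [htr, MonoidAlgebra.coeff_sum, Finsupp.finsetSum_apply]
      have ha' : ∀ n ∈ N, conjA n a'.1 = a'.1 := fun n hn =>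
        mem_fixAlg.1 a'.2 n ((le_sup_left : N ≤ N ⊔ H) hn)
      let F : G → ResField M := fun t => (conjA t a'.1).coeff c
      have hFN : ∀ t n, n ∈ N → F (t * n) = F t := fun t n hn => by
        simp only [F, ← conjA_conjA, ha' n hn]
      have hFu : ∀ t, F (u * t) = F t := fun t => by
        simp only [F, coeff_conjA]
        congr 1
        calc (u * t)⁻¹ * c * (u * t) = t⁻¹ * (u⁻¹ * (c * u)) * t := by group
          _ = t⁻¹ * c * t := by rw [hcu.eq, inv_mul_cancel_left]
      show ∑ l ∈ Finset.range p, F (q N ^ l) = 0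
      have hshift : ∀ l : ℕ, F (q N ^ (l + j)) = F (q N ^ l) := fun l => by
        have hm2 : q N ^ (l + j) = u * q N ^ l *
            ((q N ^ l)⁻¹ * (u⁻¹ * q N ^ j) * q N ^ l) := by
          rw [add_comm, pow_add]; group
        rw [hm2, hFN, hFu]
        have h1 := hs.conj _ (Q.inv_mem (Q.pow_mem hs.mem l)) _ (N.inv_mem hju)
        rw [mul_inv_rev, inv_inv, inv_inv] at h1
        exact h1
      have hmodN : ∀ l : ℕ, F (q N ^ l) = F (q N ^ (l % p)) := fun l => by
        conv_lhs => rw [← Nat.mod_add_div l p, pow_add, pow_mul]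
        exact hFN _ _ (N.pow_mem hs.pow _)
      have hmul : ∀ k : ℕ, F (q N ^ (k * j)) = F (q N ^ 0) := fun k => by
        induction k with
        | zero => simp
        | succ k ihk => rw [add_mul, one_mul, hshift, ihk]
      have hconst : ∀ l ∈ Finset.range p, F (q N ^ l) = F (q N ^ 0) := by
        intro l _
        obtain ⟨b, hb⟩ : ∃ b : ℕ, b * j % p = l % p := by
          have hcop : Nat.Coprime j p := ((Fact.out : p.Prime).coprime_iff_not_dvd.2
            (Nat.not_dvd_of_pos_of_lt (Nat.pos_of_ne_zero hj0) hj)).symm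
          have hz : (j : ZMod p) ≠ 0 := by
            rw [Ne, ZMod.natCast_eq_zero_iff]
            exact Nat.not_dvd_of_pos_of_lt (Nat.pos_of_ne_zero hj0) hj
          refine ⟨((l : ZMod p) * (j : ZMod p)⁻¹).val, ?_⟩
          rw [← ZMod.natCast_eq_natCast_iff', Nat.cast_mul, ZMod.natCast_zmod_val, mul_assoc,
            inv_mul_cancel₀ hz, mul_one]
        rw [hmodN l, ← hb, ← hmodN, hmul]
      rw [Finset.sum_congr rfl hconst, Finset.sum_const, Finset.card_range, nsmul_eq_mul,
        CharP.cast_eq_zero, zero_mul]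
    show Theta p P e lam χ ε (u * h) = 0
    rw [Theta, hpp]
    refine Finset.sum_eq_zero fun f _ => ?_
    rw [hzero, zero_mul, hat_zero hχc, mul_zero]
  have hsum2 : ∀ F : ↥(Q ⊔ H) → ℂ, (∀ g : ↥(Q ⊔ H), (g : G) ∉ K' → F g = 0) →
      ∑ g, F g = ∑ g : K', F ⟨g, hsupK N hN g.2⟩ := by
    intro F hF
    refine (Finset.sum_bij_ne_zero (fun (g : K') _ _ => (⟨g, hsupK N hN g.2⟩ : ↥(Q ⊔ H)))
      (fun _ _ _ => Finset.mem_univ _)
      (fun a _ _ b _ _ h => Subtype.ext (congrArg Subtype.val h :)) (fun g _ hg => ?_)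
      (fun _ _ _ => rfl)).symm
    have : (g : G) ∈ K' := by
      by_contra h'
      exact hg (hF g h')
    exact ⟨⟨g, this⟩, Finset.mem_univ _, hg, rfl⟩
  have hidx : Nat.card ↥(Q ⊔ H) = p * Nat.card K' := by
    have hcov : ∀ g : ↥(Q ⊔ H), ∃ l, l < p ∧ (q N ^ l)⁻¹ * (g : G) ∈ K' := by
      rintro ⟨g, hg⟩
      obtain ⟨u, hu, h, hh, rfl, -⟩ := exists_split_mem hQ hH hc hg
      obtain ⟨l, hl, hlu⟩ := hs.cover u hu
      refine ⟨l, hl, ?_⟩
      rw [← mul_assoc]
      exact K'.mul_mem ((le_sup_left : N ≤ N ⊔ H) hlu) ((le_sup_right : H ≤ N ⊔ H) hh)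
    choose L hLp hL using hcov
    have huniq : ∀ (g : ↥(Q ⊔ H)) (l : ℕ), l < p → (q N ^ l)⁻¹ * (g : G) ∈ K' → L g = l := by
      intro g l hl hlg
      have h1 : (q N ^ L g)⁻¹ * q N ^ l ∈ K' := by
        have := K'.mul_mem (hL g) (K'.inv_mem hlg)
        simpa [mul_assoc] using this
      obtain ⟨v, hv, k, hk, hvk, -⟩ := exists_split_mem (hQ.to_le hs.le) hH hcN h1
      have hkQ : k ∈ Q := by
        have hk' : k = v⁻¹ * ((q N ^ L g)⁻¹ * q N ^ l) := by rw [hvk]; group
        rw [hk']
        exact Q.mul_mem (Q.inv_mem (hs.le hv))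
          (Q.mul_mem (Q.inv_mem (Q.pow_mem hs.mem _)) (Q.pow_mem hs.mem _))
      have hk1 : k = 1 := by
        obtain ⟨i, hi⟩ := IsPGroup.iff_orderOf.1 hQ ⟨k, hkQ⟩
        rw [Subgroup.orderOf_mk] at hi
        have hd : orderOf k ∣ Nat.card H := by
          rw [← Subgroup.orderOf_mk k hk]; exact orderOf_dvd_natCard _
        rw [← orderOf_eq_one_iff, hi]
        rcases Nat.eq_zero_or_pos i with h0 | h0
        · rw [h0, pow_zero]
        · exact absurd ((dvd_pow_self p h0.ne').trans (hi ▸ hd)) hH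
      rw [hk1, mul_one] at hvk
      exact hs.inj (L g) l (hLp g) hl (q N ^ l) (hvk ▸ hv)
        (by rw [inv_mul_cancel]; exact N.one_mem)
    let Φ : ↥(Q ⊔ H) ≃ Fin p × K' :=
      { toFun := fun g => (⟨L g, hLp g⟩, ⟨_, hL g⟩)
        invFun := fun x => ⟨q N ^ (x.1 : ℕ) * (x.2 : G),
          (Q ⊔ H).mul_mem ((Q ⊔ H).pow_mem hqK _) (hsupK N hN x.2.2)⟩
        left_inv := fun g => Subtype.ext (by simp)
        right_inv := fun x => by
          have h1 := huniq ⟨q N ^ (x.1 : ℕ) * (x.2 : G),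
            (Q ⊔ H).mul_mem ((Q ⊔ H).pow_mem hqK _) (hsupK N hN x.2.2)⟩ x.1 x.1.2 (by simp)
          exact Prod.ext (Fin.ext h1) (Subtype.ext (by simp [h1])) }
    rw [Nat.card_congr Φ, Nat.card_prod, Nat.card_fin]
  have hIy : I y' = ((p : ℂ) * c) := by rw [hm y' hy', hc']; push_cast; ring
  rw [Cfsg.classInner, hsum2 _ (fun g hg => by rw [hout g hg, zero_mul]), hidx, Nat.cast_mul,
    mul_inv, mul_assoc]
  have hp0 : (p : ℂ) ≠ 0 := Nat.cast_ne_zero.mpr (Fact.out : p.Prime).ne_zero
  rw [show ((Nat.card K' : ℂ))⁻¹ * _ = I y' from rfl, hIy, ← mul_assoc, inv_mul_cancel₀ hp0, one_mul]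

/-- The twist of a character. -/
noncomputable def star (p : ℕ) [Fact p.Prime] (M : Ideal AlgInt) [M.IsMaximal] (P : Subgroup G)
    (e : MonoidAlgebra (ResField M) G) (lam χ : G → ℂ) (g : G) : ℂ :=
  Theta p P e lam χ (1 : MonoidAlgebra (ResField M) G) g

theorem isClassFunction_star (hM : Cfsg.IsPModular p M) (D : TwistData p B P e lam)
    (hχ : Cfsg.IsClassFunction G χ) : Cfsg.IsClassFunction G (star p M P e lam χ) := by
  intro g c
  have h1 : ∀ v : G, conjA v (1 : MonoidAlgebra (ResField M) G) = 1 :=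
    fun v => conjFixed_iff.1 ((inCenter_one (⊤ : Subgroup G)).fixed) v trivial
  have h := Theta_conj hM D hχ c (g := g) (ε := 1) IsIdempotentElem.one (h1 g)
  rwa [h1 c] at h

/-- **The twist of a character is a generalized character.** -/
theorem isGeneralizedCharacter_star (hM : Cfsg.IsPModular p M) (D : TwistData p B P e lam)
    (hχ : Cfsg.IsCharacter G χ) : Cfsg.IsGeneralizedCharacter G (star p M P e lam χ) := by
  haveI := Fintype.ofFinite G
  refine CfsgLib.Char.isGeneralizedCharacter_of_elementary _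
    (isClassFunction_star hM D (CfsgLib.Char.IsCharacter.isClassFunction hχ)) fun E r hr hE => ?_
  haveI := CfsgLib.Char.isNilpotent_of_isElementary hr hE
  obtain ⟨S⟩ : Nonempty (Sylow p E) := inferInstance
  obtain ⟨C, hcov, hcomm, -, hcop⟩ := CfsgLib.NilpPerm.exists_split S
  set Q := (S : Subgroup E).map E.subtype
  set H := C.map E.subtype
  have hQ : IsPGroup p Q := S.isPGroup'.map _
  have hS : ¬ p ∣ Nat.card C ∨ Nat.card (S : Subgroup E) = 1 := by
    obtain ⟨i, hi⟩ := IsPGroup.iff_card.1 S.isPGroup'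
    rcases Nat.eq_zero_or_pos i with h0 | h0
    · exact Or.inr (by rw [hi, h0, pow_zero])
    · refine Or.inl fun hd => ?_
      have := Nat.dvd_gcd (hi ▸ dvd_pow_self p h0.ne' : p ∣ Nat.card (S : Subgroup E)) hd
      rw [hcop] at this
      exact (Fact.out : p.Prime).not_dvd_one this
  have hH : ¬ p ∣ Nat.card H := by
    rw [Subgroup.card_map_of_injective Subtype.val_injective]
    rcases hS with h | h
    · exact h
    · have h2 := S.not_dvd_index
      intro hd
      apply h2
      rw [Subgroup.card_eq_one.1 h, Subgroup.index_bot]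
      exact hd.trans (Subgroup.card_subgroup_dvd_card C)
  have hc : ∀ u ∈ Q, ∀ h ∈ H, h * u = u * h := by
    rintro _ ⟨u, hu, rfl⟩ _ ⟨h, hh, rfl⟩
    exact congrArg E.subtype (hcomm u hu h hh).symm.eq
  have hle : E ≤ Q ⊔ H := fun g hg => by
    obtain ⟨a, ha, c, hc', hac⟩ := hcov ⟨g, hg⟩
    rw [show g = (a : G) * (c : G) from congrArg Subtype.val hac]
    exact Subgroup.mul_mem _ (Subgroup.mem_sup_left ⟨a, ha, rfl⟩)
      (Subgroup.mem_sup_right ⟨c, hc', rfl⟩)
  exact CfsgLib.Char.IsGeneralizedCharacter.comp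
    (isGeneralizedCharacter_Theta hM D hχ Q H hQ hH hc 1 IsIdempotentElem.one)
    (Subgroup.inclusion hle)

end CfsgLib.BlockTwist
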