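import Cfsg.Agent.Lib.BlockTwist.Idem
import Cfsg.Agent.Lib.Blocks.DegreeSq.Mult
import Cfsg.Agent.Lib.Blocks.Section
import Cfsg.Agent.Lib.Blocks.Pairs.Maximal
import Cfsg.Agent.Lib.Blocks.Pairs.Bridge
import Cfsg.Agent.Lib.Blocks.Pairs.Lift
import Cfsg.Agent.S0923
import Mathlib.LinearAlgebra.PID

/-!
# Character values at lifted idempotents of the fixed algebras
-/

set_option autoImplicit false
set_option maxHeartbeats 1000000
set_option synthInstance.maxHeartbeats 400000

namespace CfsgLib.BlockTwist

open Cfsg CfsgLib.Blocks CfsgLib.Blocks.Pairs CfsgLib.DegreeSq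
open scoped Classical

universe u

variable {M : Ideal AlgInt} [M.IsMaximal] {G : Type u} [Group G] [Finite G]

instance finiteDimensional_groupAlgebra :
    FiniteDimensional (ResField M) (MonoidAlgebra (ResField M) G) :=
  finiteDimensional_monoidAlgebra

/-- Conjugation is conjugation by a group element of the algebra. -/
theorem conjA_eq_single {F : Type*} [Field F] (x : G) (a : MonoidAlgebra F G) :
    conjA x a = MonoidAlgebra.single x 1 * a * MonoidAlgebra.single x⁻¹ 1 := by
  ext c
  rw [coeff_conjA, coeff_mul_single_group, mul_one, coeff_single_mul_group, one_mul, inv_inv,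
    mul_assoc]

theorem conjA_eq_iff_commute {F : Type*} [Field F] (x : G) (a : MonoidAlgebra F G) :
    conjA x a = a ↔ Commute (MonoidAlgebra.single x (1 : F)) a := by
  rw [conjA_eq_single]
  constructor
  · intro h
    show _ = _
    conv_rhs => rw [← h]
    rw [mul_assoc _ (MonoidAlgebra.single x⁻¹ 1), MonoidAlgebra.single_mul_single, inv_mul_cancel,
      one_mul, ← MonoidAlgebra.one_def, mul_one]
  · intro h
    rw [h.eq, mul_assoc, MonoidAlgebra.single_mul_single, mul_inv_cancel, one_mul,
      ← MonoidAlgebra.one_def, mul_one]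

/-- The stabilizer of an element of the group algebra under conjugation. -/
def stabA {F : Type*} [Field F] (a : MonoidAlgebra F G) : Subgroup G where
  carrier := {x | conjA x a = a}
  one_mem' := by
    show conjA 1 a = a
    ext c
    simp
  mul_mem' := by
    intro x y (hx : conjA x a = a) (hy : conjA y a = a)
    show conjA (x * y) a = a
    rw [← conjA_conjA, hy, hx]
  inv_mem' := by
    intro x (hx : conjA x a = a)
    show conjA x⁻¹ a = a
    conv_lhs => rw [← hx]
    rw [conjA_conjA, inv_mul_cancel]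
    ext c
    simp

theorem mem_stabA {F : Type*} [Field F] {a : MonoidAlgebra F G} {x : G} :
    x ∈ stabA a ↔ conjA x a = a := Iff.rfl

/-- The elements of the group algebra fixed by a set of elements of the group. -/
noncomputable def fixAlg (M : Ideal AlgInt) [M.IsMaximal] (S : Set G) :
    Subalgebra (ResField M) (MonoidAlgebra (ResField M) G) :=
  Subalgebra.centralizer (ResField M)
    ((fun g : G => MonoidAlgebra.single g (1 : ResField M)) '' S)

theorem mem_fixAlg {S : Set G} {a : MonoidAlgebra (ResField M) G} :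
    a ∈ fixAlg M S ↔ ∀ g ∈ S, conjA g a = a := by
  rw [fixAlg, Subalgebra.mem_centralizer_iff]
  constructor
  · exact fun h g hg => (conjA_eq_iff_commute g a).2 (h _ ⟨g, hg, rfl⟩)
  · rintro h _ ⟨g, hg, rfl⟩
    exact (conjA_eq_iff_commute g a).1 (h g hg)

theorem fixAlg_anti {S T : Set G} (h : S ⊆ T) {a : MonoidAlgebra (ResField M) G}
    (ha : a ∈ fixAlg M T) : a ∈ fixAlg M S :=
  mem_fixAlg.2 fun g hg => mem_fixAlg.1 ha g (h hg)

theorem conjFixed_of_fixAlg {H : Subgroup G} {a : MonoidAlgebra (ResField M) G}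
    (ha : a ∈ fixAlg M (H : Set G)) : ConjFixed H a :=
  conjFixed_iff.2 (mem_fixAlg.1 ha)

theorem conjFixed_zpowers {S : Set G} {u : G} (hu : u ∈ S) {a : MonoidAlgebra (ResField M) G}
    (ha : a ∈ fixAlg M S) : ConjFixed (Subgroup.zpowers u) a :=
  conjFixed_iff.2 fun _ hv =>
    (Subgroup.zpowers_le.2 (show u ∈ stabA a from mem_fixAlg.1 ha u hu) : _ ≤ stabA a) hv

theorem mem_fixAlg_of_inCenter {H : Subgroup G} {a : MonoidAlgebra (ResField M) G}
    (ha : InCenter H a) {S : Set G} (hS : S ⊆ H) : a ∈ fixAlg M S :=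
  mem_fixAlg.2 fun g hg => conjFixed_iff.1 ha.fixed g (hS hg)

theorem trunc_mem_fixAlg {S : Set G} {Q : Subgroup G}
    (hS : S ⊆ Subgroup.normalizer (Q : Set G)) {a : MonoidAlgebra (ResField M) G}
    (ha : a ∈ fixAlg M S) : trunc Q a ∈ fixAlg M S :=
  mem_fixAlg.2 fun g hg => by
    have h := trunc_conjA g Q a
    rw [conjSub_eq_of_mem_normalizer (hS hg), mem_fixAlg.1 ha g hg] at h
    exact h.symm

variable {p : ℕ} [Fact p.Prime] [CharP (ResField M) p]

/-- The Brauer map of a `p`-element, on the fixed algebra of a set containing it. -/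
noncomputable def brU {S : Set G} {u : G} (hu : u ∈ S) (hp : IsPGroup p (Subgroup.zpowers u)) :
    fixAlg M S →+* MonoidAlgebra (ResField M) G where
  toFun a := trunc (Subgroup.zpowers u) (a : MonoidAlgebra (ResField M) G)
  map_one' := by simp
  map_zero' := by simp
  map_add' a b := by simp [trunc_add]
  map_mul' a b := by
    show trunc _ ((a : MonoidAlgebra (ResField M) G) * (b : MonoidAlgebra (ResField M) G)) = _
    exact trunc_mul hp (conjFixed_zpowers hu a.2) (conjFixed_zpowers hu b.2)

omit [Fact p.Prime] [CharP (ResField M) p]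

/-! ### Lifting -/

theorem exists_preimage_fixed {S : Set G} {a : MonoidAlgebra (ResField M) G}
    (ha : a ∈ fixAlg M S) : ∃ b : MonoidAlgebra (locRing M) G, redA M G b = a ∧
      ∀ g ∈ S, Commute (MonoidAlgebra.single g (1 : locRing M)) b := by
  refine ⟨ofFun fun c => Function.surjInv (red_surjective (M := M)) (a.coeff c), ?_, fun g hg => ?_⟩
  · ext c
    rw [coeff_redA, coeff_ofFun, Function.surjInv_eq (red_surjective (M := M))]
  · refine MonoidAlgebra.ext (Finsupp.ext fun c => ?_)
    rw [coeff_single_mul_group, coeff_mul_single_group, one_mul, mul_one, coeff_ofFun, coeff_ofFun]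
    congr 1
    have h := congrArg (fun z => z.coeff (c * g⁻¹)) (mem_fixAlg.1 ha g hg)
    simp only [coeff_conjA] at h
    rw [← h]
    congr 1
    group

theorem exists_lift_fixed {S : Set G} {ε : MonoidAlgebra (ResField M) G} (hε : IsIdempotentElem ε)
    (ha : ε ∈ fixAlg M S) : ∃ E : MonoidAlgebra (locRing M) G, IsIdempotentElem E ∧
      redA M G E = ε ∧ ∀ g ∈ S, Commute (MonoidAlgebra.single g (1 : locRing M)) E := by
  obtain ⟨b, rfl, hb⟩ := exists_preimage_fixed ha
  obtain ⟨P, hP, hP'⟩ := exists_idem_aeval b hε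
  exact ⟨_, hP, hP', fun g hg => (commute_aeval (hb g hg).symm P).symm⟩

/-- The value at `g` of a function on the lift of a `g`-fixed idempotent. -/
noncomputable def hat (χ : G → ℂ) (g : G) (ε : MonoidAlgebra (ResField M) G) : ℂ :=
  haveI := Fintype.ofFinite G
  if h : ∃ E : MonoidAlgebra (locRing M) G, IsIdempotentElem E ∧ redA M G E = ε ∧
      Commute (MonoidAlgebra.single g (1 : locRing M)) E then
    chR χ (MonoidAlgebra.single g (1 : locRing M) * h.choose)
  else 0

variable {χ : G → ℂ}

theorem hat_spec [Fintype G] (hχ : Cfsg.IsClassFunction G χ) {g : G}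
    {ε : MonoidAlgebra (ResField M) G} {E : MonoidAlgebra (locRing M) G}
    (hE : IsIdempotentElem E) (hEr : redA M G E = ε)
    (hEc : Commute (MonoidAlgebra.single g (1 : locRing M)) E) :
    hat χ g ε = chR χ (MonoidAlgebra.single g (1 : locRing M) * E) := by
  have hex : ∃ E : MonoidAlgebra (locRing M) G, IsIdempotentElem E ∧ redA M G E = ε ∧
      Commute (MonoidAlgebra.single g (1 : locRing M)) E := ⟨E, hE, hEr, hEc⟩
  have hsame : ∀ E' : MonoidAlgebra (locRing M) G, IsIdempotentElem E' → redA M G E' = ε →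
      Commute (MonoidAlgebra.single g (1 : locRing M)) E' →
      chR χ (MonoidAlgebra.single g (1 : locRing M) * E') =
        chR χ (MonoidAlgebra.single g (1 : locRing M) * E) := by
    intro E' hE' hr hc
    set U := E * E' + (1 - E) * (1 - E') with hU
    obtain ⟨V, hV⟩ := isUnit_of_redA_eq_one (a := U) (by
      have hi : IsIdempotentElem ε := hr ▸ hE'.map _
      rw [hU, map_add, map_mul, map_mul, map_sub, map_sub, map_one, hEr, hr, hi.eq, hi.one_sub.eq]
      abel)
    have hUc : Commute (MonoidAlgebra.single g (1 : locRing M)) V.val := by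
      rw [hV, hU]
      exact (hEc.mul_right hc).add_right
        (((Commute.one_right _).sub_right hEc).mul_right ((Commute.one_right _).sub_right hc))
    have hEV : E * V.val = V.val * E' := by
      rw [hV, hU, mul_add, add_mul, ← mul_assoc, hE.eq, ← mul_assoc, hE.mul_one_sub_self,
        zero_mul, add_zero, mul_assoc, hE'.eq, mul_assoc (1 - E), hE'.one_sub_mul_self,
        mul_zero, add_zero]
    have e : E = V.val * E' * (V⁻¹).val := by rw [← hEV, mul_assoc, Units.mul_inv, mul_one]
    conv_rhs => rw [e, ← mul_assoc, chR_comm hχ, ← mul_assoc, ← mul_assoc,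
      hUc.units_inv_right.symm.eq, mul_assoc _ (V⁻¹).val, Units.inv_mul, mul_one]
  unfold hat
  rw [dif_pos hex]
  convert hsame hex.choose hex.choose_spec.1 hex.choose_spec.2.1 hex.choose_spec.2.2

theorem hat_zero (hχ : Cfsg.IsClassFunction G χ) (g : G) :
    hat χ g (0 : MonoidAlgebra (ResField M) G) = 0 := by
  haveI := Fintype.ofFinite G
  rw [hat_spec hχ IsIdempotentElem.zero (map_zero _) (Commute.zero_right _), mul_zero, chR_zero]

theorem hat_one (hχ : Cfsg.IsClassFunction G χ) (g : G) :
    hat χ g (1 : MonoidAlgebra (ResField M) G) = χ g := by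
  haveI := Fintype.ofFinite G
  rw [hat_spec hχ IsIdempotentElem.one (map_one _) (Commute.one_right _), mul_one, chR_single,
    OneMemClass.coe_one, one_mul]

theorem hat_add (hχ : Cfsg.IsClassFunction G χ) {g : G} {x y : MonoidAlgebra (ResField M) G}
    (hx : IsIdempotentElem x) (hy : IsIdempotentElem y) (h1 : x * y = 0) (h2 : y * x = 0)
    (hgx : conjA g x = x) (hgy : conjA g y = y) :
    hat χ g (x + y) = hat χ g x + hat χ g y := by
  haveI := Fintype.ofFinite G
  have hxy : IsIdempotentElem (x + y) := by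
    show _ = _
    rw [mul_add, add_mul, add_mul, hx.eq, hy.eq, h1, h2, add_zero, zero_add]
  have hfix : ∀ z, conjA g z = z → z ∈ fixAlg M ({g} : Set G) := fun z hz =>
    mem_fixAlg.2 fun v hv => by rw [Set.mem_singleton_iff.1 hv, hz]
  obtain ⟨E, hE, hEr, hEc⟩ := exists_lift_fixed hxy (hfix _ (by rw [conjA_add, hgx, hgy]))
  obtain ⟨a, ha, hac⟩ := exists_preimage_fixed (hfix _ hgx)
  have hEg := hEc g rfl
  set b := E * a * E with hb
  have hrb : redA M G b = x := by
    rw [hb, map_mul, map_mul, hEr, ha, add_mul, hx.eq, h2, add_zero, mul_add, hx.eq, h1, add_zero]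
  obtain ⟨P, hP, hP'⟩ := exists_idem_aeval b (hrb.symm ▸ hx)
  have hbE : Commute b E := by
    show b * E = E * b
    rw [hb, mul_assoc _ E E, hE.eq]
    simp only [← mul_assoc, hE.eq]
  have hbg : Commute (MonoidAlgebra.single g (1 : locRing M)) b :=
    ((hEg.mul_right (hac g rfl)).mul_right hEg)
  set E' := Polynomial.aeval b P * E with hE'
  have hc : Commute (Polynomial.aeval b P) E := commute_aeval hbE P
  have hE'i : IsIdempotentElem E' := hP.mul_of_commute hc hE
  have hE'g : Commute (MonoidAlgebra.single g (1 : locRing M)) E' :=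
    (commute_aeval hbg.symm P).symm.mul_right hEg
  have hl : E * E' = E' := by rw [hE', ← mul_assoc, ← hc.eq, mul_assoc, hE.eq]
  have hr : E' * E = E' := by rw [hE', mul_assoc, hE.eq]
  have hE'r : redA M G E' = x := by
    rw [hE', map_mul, hP', hrb, hEr, mul_add, hx.eq, h1, add_zero]
  have hd : IsIdempotentElem (E - E') := by
    show _ = _
    rw [sub_mul, mul_sub, mul_sub, hE.eq, hE'i.eq, hl, hr]
    abel
  rw [hat_spec hχ hE hEr hEg, hat_spec hχ hE'i hE'r hE'g,
    hat_spec hχ hd (ε := y) (by rw [map_sub, hEr, hE'r, add_sub_cancel_left])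
      (hEg.sub_right hE'g), ← chR_add, ← mul_add, add_sub_cancel]

/-- On the fixed algebra of `g`, `hat` is a function of idempotents. -/
theorem isIdemFun_hat (hχ : Cfsg.IsClassFunction G χ) {S : Set G} {g : G} (hg : g ∈ S) :
    IsIdemFun (fun x : fixAlg M S => hat χ g (x : MonoidAlgebra (ResField M) G)) := by
  haveI := Fintype.ofFinite G
  refine ⟨fun x y hx U hxy => ?_, fun x y hx hy h1 h2 => ?_⟩
  · have hx' : IsIdempotentElem (x : MonoidAlgebra (ResField M) G) := congrArg Subtype.val hx.eq
    obtain ⟨E, hE, hEr, hEc⟩ := exists_lift_fixed hx' x.2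
    obtain ⟨a, ha, hac⟩ := exists_preimage_fixed (U.val).2
    obtain ⟨b, hb, hbc⟩ := exists_preimage_fixed (U⁻¹).val.2
    obtain ⟨v, hv⟩ := isUnit_of_redA_eq_one (a := b * a) (by
      rw [map_mul, ha, hb, ← MulMemClass.coe_mul, Units.inv_mul, OneMemClass.coe_one])
    have hvc : Commute (MonoidAlgebra.single g (1 : locRing M)) v.val :=
      hv ▸ (hbc g hg).mul_right (hac g hg)
    have hba : (v⁻¹).val * b * a = 1 := by rw [mul_assoc, ← hv]; exact v.inv_mul
    obtain ⟨w, hw⟩ := isUnit_of_redA_eq_one (a := a * b) (by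
      rw [map_mul, ha, hb, ← MulMemClass.coe_mul, Units.mul_inv, OneMemClass.coe_one])
    have hab : a * (b * (w⁻¹).val) = 1 := by rw [← mul_assoc, ← hw]; exact w.mul_inv
    have hinv : b * (w⁻¹).val = (v⁻¹).val * b := (left_inv_eq_right_inv hba hab).symm
    have hab' : a * ((v⁻¹).val * b) = 1 := hinv ▸ hab
    set c := (v⁻¹).val * b with hc
    have hcc : Commute (MonoidAlgebra.single g (1 : locRing M)) c :=
      hvc.units_inv_right.mul_right (hbc g hg)
    have hrc : redA M G c = ((U⁻¹).val : MonoidAlgebra (ResField M) G) := by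
      refine (left_inv_eq_right_inv (a := (U.val : MonoidAlgebra (ResField M) G)) ?_ ?_).symm
      · rw [← MulMemClass.coe_mul, Units.inv_mul, OneMemClass.coe_one]
      · rw [← ha, ← map_mul, hab', map_one]
    have hE' : IsIdempotentElem (c * E * a) := by
      show _ = _
      calc c * E * a * (c * E * a) = c * (E * (a * c) * E) * a := by simp only [mul_assoc]
        _ = c * E * a := by rw [hab', mul_one, hE.eq]
    have hr : redA M G (c * E * a) = (y : MonoidAlgebra (ResField M) G) := by
      rw [map_mul, map_mul, hrc, hEr, ha, mul_assoc, ← MulMemClass.coe_mul, ← MulMemClass.coe_mul,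
        hxy, Units.inv_mul_cancel_left]
    show hat χ g _ = hat χ g _
    rw [hat_spec hχ hE hEr (hEc g hg), hat_spec hχ hE' hr
      ((hcc.mul_right (hEc g hg)).mul_right (hac g hg)), mul_assoc c, ← mul_assoc _ c,
      hcc.eq, mul_assoc c, chR_comm hχ c, mul_assoc, mul_assoc, hab', mul_one]
  · exact hat_add hχ (congrArg Subtype.val hx.eq) (congrArg Subtype.val hy.eq)
      (congrArg Subtype.val h1) (congrArg Subtype.val h2) (mem_fixAlg.1 x.2 g hg)
      (mem_fixAlg.1 y.2 g hg)

/-- Vanishing of the Brauer image kills the value. -/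
theorem hat_eq_zero_of_trunc {p : ℕ} [Fact p.Prime] (hmem : (p : AlgInt) ∈ M)
    (hχ : Cfsg.IsClassFunction G χ) {g u : G} (hu : Cfsg.IsPPart p g u)
    {ε : MonoidAlgebra (ResField M) G} (hε : IsIdempotentElem ε) (hg : conjA g ε = ε)
    (h0 : trunc (Subgroup.zpowers u) ε = 0) : hat χ g ε = 0 := by
  haveI := Fintype.ofFinite G
  obtain ⟨E, hE, hEr, hEc⟩ := exists_lift_fixed (S := ({g} : Set G)) hε
    (mem_fixAlg.2 fun v hv => by rw [Set.mem_singleton_iff.1 hv, hg])
  have hc := hEc g rfl
  have h := sum_coeff_mul_classFun_eq_zero (Fact.out : p.Prime) hmem E hE hu (fun c => by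
      have := congrArg (fun a => a.coeff (c * g)) hc.eq
      simp only [coeff_single_mul_group, coeff_mul_single_group, one_mul, mul_one,
        mul_inv_cancel_right] at this
      rw [mul_assoc]
      exact this)
    (fun c hc' => by
      have h1 : c ∈ Subgroup.centralizer (Subgroup.zpowers u : Set G) :=
        mem_centralizer_zpowers_iff.2 hc'
      have h2 := congrArg (fun z => z.coeff c) h0
      simp only [coeff_trunc, if_pos h1, MonoidAlgebra.coeff_zero, Finsupp.zero_apply] at h2
      rwa [← hEr, coeff_redA] at h2) hχ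
  rw [hat_spec hχ hE hEr hc, hc.eq, chR, ← h]
  refine (Fintype.sum_equiv (Equiv.mulRight g) _ _ fun c => ?_).symm
  rw [Equiv.coe_mulRight, coeff_mul_single_group, mul_one, mul_inv_cancel_right]

/-- The value only depends on the Brauer image. -/
theorem hat_eq_of_trunc_eq {p : ℕ} [Fact p.Prime] [CharP (ResField M) p] (hmem : (p : AlgInt) ∈ M)
    (hχ : Cfsg.IsClassFunction G χ) {g u : G} (hu : Cfsg.IsPPart p g u)
    {x y : MonoidAlgebra (ResField M) G} (hx : IsIdempotentElem x) (hy : IsIdempotentElem y)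
    (hgx : conjA g x = x) (hgy : conjA g y = y)
    (h : trunc (Subgroup.zpowers u) x = trunc (Subgroup.zpowers u) y) :
    hat χ g x = hat χ g y := by
  have hS : ∀ z, conjA g z = z → z ∈ fixAlg M (Subgroup.zpowers g : Set G) := fun z hz =>
    mem_fixAlg.2 fun v hv => (Subgroup.zpowers_le.2 (show g ∈ stabA z from hz) : _ ≤ stabA z) hv
  have huS : u ∈ (Subgroup.zpowers g : Set G) := IsPPart.mem_zpowers (Fact.out : p.Prime) hu
  have hup : IsPGroup p (Subgroup.zpowers u) := by
    obtain ⟨-, -, -, ⟨k, hk⟩, -⟩ := id hu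
    exact CfsgLib.Blocks.isPGroup_zpowers hk
  refine IsIdemFun.eq_of_map_eq (k := ResField M) (brU huS hup)
    (isIdemFun_hat hχ (S := (Subgroup.zpowers g : Set G)) (Subgroup.mem_zpowers g))
    (fun z hz h0 => hat_eq_zero_of_trunc hmem hχ hu (congrArg Subtype.val hz.eq)
      (mem_fixAlg.1 z.2 g (Subgroup.mem_zpowers g)) h0)
    (x := ⟨x, hS x hgx⟩) (y := ⟨y, hS y hgy⟩) (Subtype.ext hx.eq) (Subtype.ext hy.eq) h

theorem hat_conj (hχ : Cfsg.IsClassFunction G χ) (c : G) {g : G}
    {ε : MonoidAlgebra (ResField M) G} (hε : IsIdempotentElem ε) (hg : conjA g ε = ε) :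
    hat χ (c * g * c⁻¹) (conjA c ε) = hat χ g ε := by
  haveI := Fintype.ofFinite G
  obtain ⟨E, hE, hEr, hEc⟩ := exists_lift_fixed (S := ({g} : Set G)) hε
    (mem_fixAlg.2 fun v hv => by rw [Set.mem_singleton_iff.1 hv, hg])
  set s := MonoidAlgebra.single c (1 : locRing M)
  set t := MonoidAlgebra.single c⁻¹ (1 : locRing M)
  have hts : t * s = 1 := by
    simp [s, t, MonoidAlgebra.single_mul_single, MonoidAlgebra.one_def]
  have hE' : IsIdempotentElem (s * E * t) := by
    show _ = _
    calc s * E * t * (s * E * t) = s * (E * (t * s) * E) * t := by simp only [mul_assoc]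
      _ = s * E * t := by rw [hts, mul_one, hE.eq]
  have hr : redA M G (s * E * t) = conjA c ε := by
    rw [map_mul, map_mul, hEr, conjA_eq_single]
    simp [s, t, redA]
  have hs : MonoidAlgebra.single (c * g * c⁻¹) (1 : locRing M) =
      s * MonoidAlgebra.single g 1 * t := by
    simp [s, t, MonoidAlgebra.single_mul_single]
  have hc' : Commute (MonoidAlgebra.single (c * g * c⁻¹) (1 : locRing M)) (s * E * t) := by
    show _ = _
    rw [hs]
    calc s * MonoidAlgebra.single g 1 * t * (s * E * t)
        = s * (MonoidAlgebra.single g 1 * ((t * s) * E)) * t := by simp only [mul_assoc]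
      _ = s * (E * ((t * s) * MonoidAlgebra.single g 1)) * t := by
          rw [hts, one_mul, one_mul, (hEc g rfl).eq]
      _ = _ := by simp only [mul_assoc]
  rw [hat_spec hχ hE' hr hc', hat_spec hχ hE hEr (hEc g rfl), hs]
  rw [show s * MonoidAlgebra.single g 1 * t * (s * E * t) =
      s * (MonoidAlgebra.single g 1 * ((t * s) * E)) * t by simp only [mul_assoc], hts, one_mul,
    chR_comm hχ, ← mul_assoc, hts, one_mul]

/-- On a subgroup fixing the idempotent the values form a character. -/
theorem isCharacter_hat (hχ : Cfsg.IsCharacter G χ) {K : Subgroup G}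
    {ε : MonoidAlgebra (ResField M) G} (hε : IsIdempotentElem ε)
    (hK : ε ∈ fixAlg M (K : Set G)) :
    Cfsg.IsCharacter K (fun g : K => hat χ (g : G) ε) := by
  haveI := Fintype.ofFinite G
  obtain ⟨E, hE, hEr, hEc⟩ := exists_lift_fixed hε hK
  obtain ⟨n, ρ, rfl⟩ := hχ
  set Pm := actR ρ E with hPm
  have hPi : IsIdempotentElem Pm := hE.map _
  have hcomm : ∀ g : K, Commute (ρ (g : G)) Pm := fun g => by
    have := (hEc g g.2).map (actR ρ)
    rwa [actR_single, OneMemClass.coe_one, one_smul] at this
  have hmem : ∀ g : K, ∀ v ∈ LinearMap.range Pm, ρ (g : G) v ∈ LinearMap.range Pm := by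
    rintro g _ ⟨w, rfl⟩
    exact ⟨ρ (g : G) w, (LinearMap.congr_fun (hcomm g).eq w).symm⟩
  let σ : Representation ℂ K (LinearMap.range Pm) :=
    { toFun := fun g => (ρ (g : G)).restrict (hmem g)
      map_one' := LinearMap.ext fun v => Subtype.ext (by simp)
      map_mul' := fun a b => LinearMap.ext fun v => Subtype.ext (by simp) }
  have hproj := LinearMap.IsIdempotentElem.isProj_range _ hPi
  have hrange : ∀ g : K, ∀ v, (ρ (g : G) * Pm) v ∈ LinearMap.range Pm := fun g v =>
    ⟨ρ (g : G) v, (LinearMap.congr_fun (hcomm g).eq v).symm⟩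
  suffices h : (fun g : K => hat ρ.character (g : G) ε) = σ.character from
    h ▸ CfsgLib.Char.isCharacter_character σ
  funext g
  rw [hat_spec (CfsgLib.Char.IsCharacter.isClassFunction ⟨n, ρ, rfl⟩) hE hEr (hEc g g.2),
    chR_character, map_mul, actR_single, OneMemClass.coe_one, one_smul]
  show _ = LinearMap.trace ℂ _ ((ρ (g : G)).restrict (hmem g))
  rw [← LinearMap.trace_restrict_eq_of_forall_mem _ _ (hrange g)]
  congr 1
  refine LinearMap.ext fun v => Subtype.ext ?_
  show ρ (g : G) (Pm v) = ρ (g : G) v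
  rw [hproj.map_id _ v.2]

/-- The value at a block idempotent of a centralizer is the block part of the translate. -/
theorem hat_eIn_eq_blockPart (hχ : Cfsg.IsClassFunction G χ) {x : G} {C : Subgroup G}
    (hC : C = Subgroup.centralizer {x}) {b : Set (IrrCharacter C)} (hb : IsPBlock M b) (y : C) :
    hat χ (x * y) (eIn hb) = Cfsg.blockPart b (fun c : C => χ (x * c)) y := by
  haveI := Fintype.ofFinite G
  haveI := Fintype.ofFinite C
  set E : MonoidAlgebra (locRing M) G :=
    ofFun fun g => ⟨subgroupBlockCoeff C b g, subgroupBlockCoeff_mem hb g⟩ with hEdef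
  let ι : MonoidAlgebra (locRing M) G →+* MonoidAlgebra ℂ G :=
    MonoidAlgebra.mapRingHom G (locRing M).subtype
  have hιinj : Function.Injective ι := fun a a' h => MonoidAlgebra.ext (Finsupp.ext fun g =>
    Subtype.ext (by simpa [ι] using congrArg (fun z => z.coeff g) h))
  have hιE : ι E = exactIn C b := by
    ext g
    simp [ι, E, exactIn]
  have hxC : x ∈ C := by rw [hC, Subgroup.mem_centralizer_singleton_iff]
  have hxy : x * (y : G) ∈ C := C.mul_mem hxC y.2
  have hE : IsIdempotentElem E := hιinj (by rw [map_mul, hιE, exactIn_idem])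
  have hEr : redA M G E = eIn hb := by
    ext g
    rw [coeff_redA, coeff_eIn, hEdef, coeff_ofFun]
  have hEc : Commute (MonoidAlgebra.single (x * (y : G)) (1 : locRing M)) E := by
    refine hιinj ?_
    rw [map_mul, map_mul, hιE, show ι (MonoidAlgebra.single (x * (y : G)) (1 : locRing M)) =
      MonoidAlgebra.single (x * (y : G)) (1 : ℂ) by simp [ι]]
    exact ((conjA_eq_iff_commute _ _).1
      (conjFixed_iff.1 (inCenter_exactIn C b).fixed _ hxy)).eq
  have hcl : Cfsg.IsClassFunction C (fun c : C => χ (x * c)) := fun c d => by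
    have hd : (d : G) * x = x * d :=
      Subgroup.mem_centralizer_singleton_iff.mp (hC ▸ d.2 : (d : G) ∈ Subgroup.centralizer {x})
    simp only [Subgroup.coe_mul, InvMemClass.coe_inv]
    rw [← mul_assoc, ← mul_assoc, ← hd, mul_assoc (d : G) x]
    exact hχ (x * (c : G)) (d : G)
  rw [hat_spec hχ hE hEr hEc, Cfsg.Agent.S0923.blockPart_eq _ _ hcl, finsum_eq_sum_of_fintype,
    hEc.eq, chR]
  refine (Finset.sum_bij_ne_zero (fun (c : C) _ _ => (c : G) * (x * (y : G)))
    (fun _ _ _ => Finset.mem_univ _) (fun a _ _ a' _ _ h => Subtype.ext (mul_right_cancel h))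
    ?_ ?_).symm
  · intro a _ ha
    rw [coeff_mul_single_group, mul_one, hEdef, coeff_ofFun] at ha
    have haC : a * (x * (y : G))⁻¹ ∈ C := by
      by_contra h
      refine ha ?_
      simp only [subgroupBlockCoeff, dif_neg h, zero_mul]
    refine ⟨⟨_, haC⟩, Finset.mem_univ _, ?_, by group⟩
    have hcomm : a * (x * (y : G))⁻¹ * x = x * (a * (x * (y : G))⁻¹) :=
      Subgroup.mem_centralizer_singleton_iff.mp (by rw [← hC]; exact haC)
    intro h0
    apply ha
    simp only [subgroupBlockCoeff, dif_pos haC, Subgroup.coe_mul] at h0 ⊢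
    rw [← h0]
    congr 2
    rw [← mul_assoc x, ← hcomm]
    group
  · intro c _ _
    rw [coeff_mul_single_group, mul_one, hEdef, coeff_ofFun, mul_inv_cancel_right]
    have hcomm : (c : G) * x = x * c :=
      Subgroup.mem_centralizer_singleton_iff.mp (hC ▸ c.2 : (c : G) ∈ Subgroup.centralizer {x})
    simp only [subgroupBlockCoeff, dif_pos c.2, Subgroup.coe_mul, Subtype.coe_eta]
    rw [← mul_assoc (c : G), hcomm, mul_assoc]

end CfsgLib.BlockTwist
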