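import Cfsg.Agent.Lib.Blocks.DegreeSq.Lift
import Cfsg.Agent.Lib.Blocks.DegreeSq.Algebra

/-!
# Fitting idempotents, functions of idempotents, and relative traces
-/

set_option autoImplicit false
set_option maxHeartbeats 1000000

namespace CfsgLib.BlockTwist

open Polynomial CfsgLib.DegreeSq
open scoped Classical

universe u v w

variable {k : Type u} [Field k] {A : Type v} [Ring A] [Algebra k A]

/-- The Fitting idempotent of an element. -/
theorem exists_fitting [FiniteDimensional k A] (s : A) :
    ∃ (P Q : k[X]) (n : ℕ), P.eval 0 = 0 ∧ IsIdempotentElem (aeval s P) ∧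
      s * aeval s Q = aeval s P ∧ s ^ n * (1 - aeval s P) = 0 := by
  obtain ⟨g, hg, hgs⟩ := Algebra.IsIntegral.isIntegral (R := k) s
  rw [← aeval_def] at hgs
  have h0 : g * X ≠ 0 := mul_ne_zero hg.ne_zero X_ne_zero
  obtain ⟨h, hh, hndvd⟩ := Polynomial.exists_eq_pow_rootMultiplicity_mul_and_not_dvd (g * X) h0 0
  rw [map_zero, sub_zero] at hh hndvd
  set n := (g * X).rootMultiplicity 0
  have hn : 0 < n := (Polynomial.rootMultiplicity_pos h0).2 (by simp)
  obtain ⟨a, b, hab⟩ : IsCoprime (X ^ n) h :=
    ((Polynomial.irreducible_X).coprime_iff_not_dvd.2 hndvd).pow_left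
  have hz : aeval s (X ^ n * h) = 0 := by rw [← hh, map_mul, hgs, zero_mul]
  refine ⟨a * X ^ n, a * X ^ (n - 1), n, by simp [hn.ne'], ?_, ?_, ?_⟩
  · show aeval s (a * X ^ n) * aeval s (a * X ^ n) = aeval s (a * X ^ n)
    have e : a * X ^ n * (a * X ^ n) = a * X ^ n - a * b * (X ^ n * h) := by
      linear_combination (a * X ^ n) * hab
    rw [← map_mul, e, map_sub, map_mul (aeval s) (a * b), hz, mul_zero, sub_zero]
  · conv_lhs => arg 1; rw [← aeval_X (R := k) s]
    rw [← map_mul]
    congr 1
    calc X * (a * X ^ (n - 1)) = a * (X ^ (n - 1) * X) := by ring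
      _ = a * X ^ n := by rw [← pow_succ, Nat.sub_add_cancel hn]
  · have e : X ^ n * (1 - a * X ^ n) = b * (X ^ n * h) := by linear_combination -(X ^ n) * hab
    calc s ^ n * (1 - aeval s (a * X ^ n)) = aeval s (X ^ n * (1 - a * X ^ n)) := by simp
      _ = 0 := by rw [e, map_mul, hz, mul_zero]

theorem aeval_mem_corner {e s : A} (hes : e * s = s) (hse : s * e = s) {P : k[X]}
    (hP : P.eval 0 = 0) : e * aeval s P = aeval s P ∧ aeval s P * e = aeval s P := by
  obtain ⟨R, rfl⟩ : X ∣ P := by rwa [X_dvd_iff, coeff_zero_eq_eval_zero]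
  constructor
  · rw [map_mul, aeval_X, ← mul_assoc, hes]
  · rw [mul_comm, map_mul, aeval_X, mul_assoc, hse]

/-- An idempotent is primitive. -/
structure IsPrim (e : A) : Prop where
  idem : IsIdempotentElem e
  prim : ∀ f : A, IsIdempotentElem f → e * f = f → f * e = f → f = 0 ∨ f = e

/-- In the corner of a primitive idempotent every element is nilpotent or invertible. -/
theorem IsPrim.dichotomy [FiniteDimensional k A] {e : A} (he : IsPrim e) {s : A}
    (hes : e * s = s) (hse : s * e = s) :
    IsNilpotent s ∨ ∃ z, e * z = z ∧ z * e = z ∧ s * z = e ∧ z * s = e := by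
  obtain ⟨P, Q, n, hP, hi, hq, hn⟩ := exists_fitting (k := k) s
  obtain ⟨h1, h2⟩ := aeval_mem_corner hes hse hP
  rcases he.prim _ hi h1 h2 with h | h
  · left
    refine ⟨n, ?_⟩
    rwa [h, sub_zero, mul_one] at hn
  · right
    have hc : Commute (aeval s Q) s := commute_aeval (Commute.refl s) Q
    refine ⟨e * aeval s Q * e, ?_, ?_, ?_, ?_⟩
    · rw [← mul_assoc, ← mul_assoc, he.idem.eq]
    · rw [mul_assoc, he.idem.eq]
    · rw [← mul_assoc, ← mul_assoc, hse, hq, h, he.idem.eq]
    · rw [mul_assoc, hes, mul_assoc, hc.eq, hq, h, he.idem.eq]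

/-- A property closed under orthogonal sums and true for primitive idempotents holds for all. -/
theorem idem_induction [FiniteDimensional k A] {motive : A → Prop} (hzero : motive 0)
    (hprim : ∀ e : A, IsPrim e → e ≠ 0 → motive e)
    (hadd : ∀ x y : A, IsIdempotentElem x → IsIdempotentElem y → x * y = 0 → y * x = 0 →
      motive x → motive y → motive (x + y))
    {e : A} (he : IsIdempotentElem e) : motive e := by
  generalize hn : Module.finrank k (LinearMap.range (LinearMap.mulLeft k e)) = n
  induction n using Nat.strong_induction_on generalizing e with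
  | _ n ih =>
    by_cases hpe : IsPrim e
    · by_cases h0 : e = 0
      · exact h0 ▸ hzero
      · exact hprim e hpe h0
    obtain ⟨f, hf, hef, hfe, hf0, hfe'⟩ :
        ∃ f, IsIdempotentElem f ∧ e * f = f ∧ f * e = f ∧ f ≠ 0 ∧ f ≠ e := by
      by_contra hc
      push Not at hc
      exact hpe ⟨he, fun f h1 h2 h3 => or_iff_not_imp_left.2 (hc f h1 h2 h3)⟩
    have hlt : ∀ x : A, e * x = x → x * e = x → IsIdempotentElem x → x ≠ e →
        Module.finrank k (LinearMap.range (LinearMap.mulLeft k x)) < n := by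
      intro x h1 h2 h3 h4
      rw [← hn]
      refine Submodule.finrank_lt_finrank_of_lt (lt_of_le_of_ne ?_ ?_)
      · rintro _ ⟨y, rfl⟩
        exact ⟨x * y, by simp [← mul_assoc, h1]⟩
      · intro heq
        obtain ⟨y, hy⟩ : e ∈ LinearMap.range (LinearMap.mulLeft k x) := heq ▸ ⟨1, by simp⟩
        have hy' : x * y = e := hy
        apply h4
        rw [← h2, ← hy', ← mul_assoc, h3.eq]
    have hd : IsIdempotentElem (e - f) := by
      show _ = _
      rw [sub_mul, mul_sub, mul_sub, he.eq, hef, hfe, hf.eq]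
      abel
    have hf1 := ih _ (hlt f hef hfe hf hfe') hf rfl
    have hf2 := ih _ (hlt (e - f) (by rw [mul_sub, he.eq, hef]) (by rw [sub_mul, he.eq, hfe]) hd
      (fun h => hf0 (sub_eq_self.1 h))) hd rfl
    have := hadd f (e - f) hf hd (by rw [mul_sub, hfe, hf.eq, sub_self])
      (by rw [sub_mul, hef, hf.eq, sub_self]) hf1 hf2
    rwa [add_sub_cancel] at this

/-- A function of idempotents killing a kernel only depends on the image. -/
theorem IsIdemFun.eq_of_map_eq [FiniteDimensional k A] {B : Type*} [Ring B] (π : A →+* B)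
    {V : Type w} [AddCommGroup V] {F : A → V} (hF : IsIdemFun F)
    (hz : ∀ x : A, IsIdempotentElem x → π x = 0 → F x = 0) {x y : A} (hx : IsIdempotentElem x)
    (hy : IsIdempotentElem y) (h : π x = π y) : F x = F y := by
  obtain ⟨Y, hY⟩ : ∃ Y, Y = x * y + (1 - x) * (1 - y) := ⟨_, rfl⟩
  obtain ⟨Z, hZ⟩ : ∃ Z, Z = y * x + (1 - y) * (1 - x) := ⟨_, rfl⟩
  obtain ⟨s, hs⟩ : ∃ s, s = 1 - (x - y) * (x - y) := ⟨_, rfl⟩
  have hπs : π s = 1 := by rw [hs, map_sub, map_one, map_mul, map_sub, h, sub_self, zero_mul, sub_zero]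
  have hsplit : ∀ a b : A, IsIdempotentElem a → IsIdempotentElem b →
      (a * b + (1 - a) * (1 - b)) * (b * a + (1 - b) * (1 - a)) =
        1 - (a - b) * (a - b) := by
    intro a b ha hb
    have h1 : ∀ c, a * (a * c) = a * c := fun c => by rw [← mul_assoc, ha.eq]
    have h2 : ∀ c, b * (b * c) = b * c := fun c => by rw [← mul_assoc, hb.eq]
    simp only [mul_add, add_mul, mul_sub, sub_mul, mul_one, one_mul, mul_assoc, ha.eq, hb.eq, h1, h2]
    abel
  have hYZ : Y * Z = s := by rw [hY, hZ, hs]; exact hsplit x y hx hy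
  have hZY : Z * Y = s := by
    rw [hY, hZ, hs, hsplit y x hy hx]
    rw [← neg_sub x y, neg_mul_neg]
  have hsx : Commute s x := by
    show s * x = x * s
    have h1 : ∀ c, x * (x * c) = x * c := fun c => by rw [← mul_assoc, hx.eq]
    simp only [hs, mul_sub, sub_mul, mul_one, one_mul, mul_assoc, hx.eq, hy.eq, h1]
    abel
  have hsy : Commute s y := by
    show s * y = y * s
    have h1 : ∀ c, y * (y * c) = y * c := fun c => by rw [← mul_assoc, hy.eq]
    simp only [hs, mul_sub, sub_mul, mul_one, one_mul, mul_assoc, hx.eq, hy.eq, h1]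
    abel
  have hsY : Commute s Y := by show s * Y = Y * s; nth_rw 1 [← hYZ]; rw [mul_assoc, hZY]
  have hsZ : Commute s Z := by show s * Z = Z * s; nth_rw 1 [← hZY]; rw [mul_assoc, hYZ]
  obtain ⟨P, Q, n, -, hf, hq, hn⟩ := exists_fitting (k := k) s
  obtain ⟨f, hfdef⟩ : ∃ f, f = aeval s P := ⟨_, rfl⟩
  obtain ⟨q, hqdef⟩ : ∃ q, q = aeval s Q := ⟨_, rfl⟩
  rw [← hfdef] at hf hq hn
  rw [← hqdef] at hq
  have hfx : Commute f x := hfdef ▸ commute_aeval hsx P
  have hfy : Commute f y := hfdef ▸ commute_aeval hsy P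
  have hfY : Commute f Y := hfdef ▸ commute_aeval hsY P
  have hfZ : Commute f Z := hfdef ▸ commute_aeval hsZ P
  have hqY : Commute q Y := hqdef ▸ commute_aeval hsY Q
  have hqf : Commute q f := hqdef ▸ hfdef ▸
    commute_aeval (commute_aeval (Commute.refl s) P).symm Q
  have hπf : π f = 1 := by
    have h1 := congrArg π hn
    rw [map_mul, map_pow, hπs, one_pow, one_mul, map_zero, map_sub, map_one, sub_eq_zero] at h1
    exact h1.symm
  have hf' := hf.one_sub_mul_self
  have hf'' := hf.mul_one_sub_self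
  let U : Aˣ := ⟨Y * f + (1 - f), Z * q * f + (1 - f), by
      have e1 : Y * f * (Z * q * f) = f := by
        calc Y * f * (Z * q * f) = Y * (f * Z) * (q * f) := by simp only [mul_assoc]
          _ = Y * Z * (f * (q * f)) := by rw [hfZ.eq]; simp only [mul_assoc]
          _ = s * (q * f) := by rw [hYZ, ← mul_assoc f, ← hqf.eq, mul_assoc q, hf.eq]
          _ = f := by rw [← mul_assoc, hq, hf.eq]
      have e2 : Y * f * (1 - f) = 0 := by rw [mul_assoc, hf'', mul_zero]
      have e3 : (1 - f) * (Z * q * f) = 0 := by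
        rw [← mul_assoc, ← mul_assoc, ((Commute.one_left Z).sub_left hfZ).eq]
        calc Z * (1 - f) * q * f = Z * ((1 - f) * (q * f)) := by simp only [mul_assoc]
          _ = 0 := by rw [hqf.eq, ← mul_assoc (1 - f), hf', zero_mul, mul_zero]
      rw [mul_add, add_mul, add_mul, e1, e2, e3, hf.one_sub.eq]
      abel, by
      have e1 : Z * q * f * (Y * f) = f := by
        calc Z * q * f * (Y * f) = Z * q * (f * Y) * f := by simp only [mul_assoc]
          _ = Z * (q * Y) * (f * f) := by rw [hfY.eq]; simp only [mul_assoc]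
          _ = Z * Y * (q * f) := by rw [hqY.eq, hf.eq]; simp only [mul_assoc]
          _ = f := by rw [hZY, ← mul_assoc, hq, hf.eq]
      have e2 : Z * q * f * (1 - f) = 0 := by rw [mul_assoc, hf'', mul_zero]
      have e3 : (1 - f) * (Y * f) = 0 := by
        rw [← mul_assoc, ((Commute.one_left Y).sub_left hfY).eq, mul_assoc, hf', mul_zero]
      rw [mul_add, add_mul, add_mul, e1, e2, e3, hf.one_sub.eq]
      abel⟩
  have hxY : x * Y = Y * y := by
    rw [hY, mul_add, add_mul, ← mul_assoc, hx.eq, ← mul_assoc, hx.mul_one_sub_self, zero_mul,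
      add_zero, mul_assoc, hy.eq, mul_assoc (1 - x), hy.one_sub_mul_self, mul_zero, add_zero]
  have hconj : F (x * f) = F (y * f) := by
    refine hF.conj _ _ (hx.mul_of_commute hfx.symm hf) U ?_
    show x * f * (Y * f + (1 - f)) = (Y * f + (1 - f)) * (y * f)
    calc x * f * (Y * f + (1 - f)) = x * (f * Y) * f + x * (f * (1 - f)) := by
          simp only [mul_add, mul_assoc]
      _ = x * Y * (f * f) := by rw [hfY.eq, hf'', mul_zero, add_zero]; simp only [mul_assoc]
      _ = Y * (y * f) * f + (1 - f) * (f * y) := by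
          rw [hxY, hf.eq, ← mul_assoc (1 - f), hf', zero_mul, add_zero, mul_assoc Y (y * f) f,
            mul_assoc y f f, hf.eq, mul_assoc]
      _ = (Y * f + (1 - f)) * (y * f) := by
          rw [add_mul, hfy.eq]
          congr 1
          calc Y * (y * f) * f = Y * (y * f * f) := by rw [mul_assoc]
            _ = Y * (f * y * f) := by rw [hfy.eq]
            _ = Y * f * (y * f) := by simp only [mul_assoc]
  have hred : ∀ a : A, IsIdempotentElem a → Commute f a → F a = F (a * f) := by
    intro a ha hfa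
    have h1 : IsIdempotentElem (a * (1 - f)) :=
      ha.mul_of_commute ((Commute.one_left a).sub_left hfa).symm hf.one_sub
    have hfa' := hfa.eq
    have h2 : a * f * (a * (1 - f)) = 0 := by
      rw [mul_assoc, ← mul_assoc f, hfa.eq, mul_assoc, hf'', mul_zero, mul_zero]
    have h3 : a * (1 - f) * (a * f) = 0 := by
      rw [mul_assoc, ← mul_assoc (1 - f), ((Commute.one_left a).sub_left hfa).eq, mul_assoc, hf',
        mul_zero, mul_zero]
    conv_lhs => rw [show a = a * f + a * (1 - f) by rw [← mul_add, add_sub_cancel, mul_one]]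
    rw [hF.add _ _ (ha.mul_of_commute hfa.symm hf) h1 h2 h3, hz _ h1
      (by rw [map_mul, map_sub, map_one, hπf, sub_self, mul_zero]), add_zero]
  rw [hred x hx hfx, hred y hy hfy, hconj]

/-- A linear function killing nilpotents and idempotents is zero. -/
theorem linear_eq_zero [IsAlgClosed k] [FiniteDimensional k A] (L : A →ₗ[k] k)
    (hnil : ∀ a, IsNilpotent a → L a = 0) (hidem : ∀ e, IsIdempotentElem e → L e = 0) : L = 0 := by
  suffices h : ∀ e : A, IsIdempotentElem e → ∀ a, e * a = a → a * e = a → L a = 0 from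
    LinearMap.ext fun a => by simpa using h 1 IsIdempotentElem.one a (one_mul a) (mul_one a)
  intro e he
  generalize hn : Module.finrank k (LinearMap.range (LinearMap.mulLeft k e)) = n
  induction n using Nat.strong_induction_on generalizing e with
  | _ n ih =>
    intro a hea hae
    by_cases h0 : e = 0
    · rw [← hea, h0, zero_mul, map_zero]
    set V := LinearMap.range (LinearMap.mulLeft k e) with hV
    have hmaps : ∀ v ∈ V, LinearMap.mulLeft k a v ∈ V := by
      intro v _
      exact ⟨a * v, by simp [← mul_assoc, hea]⟩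
    haveI : Nontrivial V := by
      refine ⟨⟨⟨e, ⟨1, by simp⟩⟩, 0, fun h => h0 ?_⟩⟩
      exact congrArg Subtype.val h
    obtain ⟨c, hc⟩ := Module.End.exists_eigenvalue ((LinearMap.mulLeft k a).restrict hmaps)
    obtain ⟨v, hv⟩ := hc.exists_hasEigenvector
    have hvc : a * (v : A) = c • (v : A) := congrArg Subtype.val hv.apply_eq_smul
    have hev : e * (v : A) = v := by
      obtain ⟨w, hw⟩ := v.2
      rw [← hw]
      simp [← mul_assoc, he.eq]
    set s := a - c • e with hs
    have hes : e * s = s := by rw [hs, mul_sub, hea, mul_smul_comm, he.eq]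
    have hse : s * e = s := by rw [hs, sub_mul, hae, smul_mul_assoc, he.eq]
    obtain ⟨P, Q, m, hP, hf, hq, hm⟩ := exists_fitting (k := k) s
    obtain ⟨h1, h2⟩ := aeval_mem_corner hes hse hP
    set f := aeval s P with hfdef
    have hsv : s * (v : A) = 0 := by rw [hs, sub_mul, hvc, smul_mul_assoc, hev, sub_self]
    have hfne : f ≠ e := by
      intro h
      apply hv.2
      apply Subtype.ext
      show (v : A) = 0
      have hc : Commute (aeval s Q) s := commute_aeval (Commute.refl s) Q
      rw [← hev, ← h, ← hq, ← hc.eq, mul_assoc, hsv, mul_zero]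
    have hlt : Module.finrank k (LinearMap.range (LinearMap.mulLeft k f)) < n := by
      rw [← hn]
      refine Submodule.finrank_lt_finrank_of_lt (lt_of_le_of_ne ?_ ?_)
      · rintro _ ⟨y, rfl⟩
        exact ⟨f * y, by simp [← mul_assoc, h1]⟩
      · intro heq
        obtain ⟨y, hy⟩ : e ∈ LinearMap.range (LinearMap.mulLeft k f) := heq ▸ ⟨1, by simp⟩
        have hy' : f * y = e := hy
        apply hfne
        rw [← h2, ← hy', ← mul_assoc, hf.eq]
    have hfs : Commute f s := commute_aeval (Commute.refl s) P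
    have hL1 : L (s * f) = 0 := ih _ hlt f hf rfl (s * f)
      (by rw [← mul_assoc, hfs.eq, mul_assoc, hf.eq]) (by rw [mul_assoc, hf.eq])
    have hL2 : L (s * (1 - f)) = 0 := hnil _ ⟨m + 1, by
      rw [((Commute.one_left s).sub_left hfs).symm.mul_pow, pow_succ s, hf.one_sub.pow_succ_eq,
        mul_assoc, ← ((Commute.one_left s).sub_left hfs).eq, ← mul_assoc, hm, zero_mul]⟩
    have : a = s * f + s * (1 - f) + c • e := by
      rw [← mul_add, add_sub_cancel, mul_one, hs, sub_add_cancel]
    rw [this, map_add, map_add, map_smul, hL1, hL2, hidem e he, smul_zero, add_zero, add_zero]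

/-- An invariant function of idempotents is divisible by `p` at a relative trace. -/
theorem dvd_of_trace_eq [IsAlgClosed k] [FiniteDimensional k A] {p : ℕ} [CharP k p]
    (σ : A ≃ₐ[k] A) {a e : A} (he : IsIdempotentElem e)
    (hTr : ∑ l ∈ Finset.range p, (⇑σ)^[l] a = e) {m : A → ℤ} (hm : IsIdemFun m)
    (hinv : ∀ x, IsIdempotentElem x → m (σ x) = m x) : (p : ℤ) ∣ m e := by
  obtain ⟨D⟩ := exists_idemData k A
  set T : A →ₗ[k] k := ∑ i, (m (D.eps i) : k) • D.tr i with hT
  have hTidem : ∀ x, IsIdempotentElem x → T x = (m x : k) := by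
    intro x hx
    obtain ⟨r, hr, hrt⟩ := D.decomp_tr x hx
    rw [hr m hm, hT, LinearMap.sum_apply, Int.cast_sum]
    refine Finset.sum_congr rfl fun i _ => ?_
    rw [LinearMap.smul_apply, hrt, smul_eq_mul, Int.cast_mul, Int.cast_natCast, mul_comm]
  have hTnil : ∀ x, IsNilpotent x → T x = 0 := by
    intro x hx
    rw [hT, LinearMap.sum_apply]
    exact Finset.sum_eq_zero fun i _ => by simp [D.tr_nil i x hx]
  have hTσ : ∀ x, T (σ x) = T x := by
    have := linear_eq_zero (T.comp σ.toLinearMap - T)
      (fun x hx => by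
        show T (σ x) - T x = 0
        rw [hTnil _ (hx.map σ), hTnil _ hx, sub_self])
      (fun x hx => by
        show T (σ x) - T x = 0
        rw [hTidem _ (hx.map σ), hTidem _ hx, hinv x hx, sub_self])
    intro x
    have h := congrArg (fun f : A →ₗ[k] k => f x) this
    exact sub_eq_zero.1 h
  have hit : ∀ l : ℕ, T ((⇑σ)^[l] a) = T a := by
    intro l
    induction l with
    | zero => rfl
    | succ l ih => rw [Function.iterate_succ_apply', hTσ, ih]
  have h1 := hTidem e he
  rw [← hTr, map_sum, Finset.sum_congr rfl fun l _ => hit l, Finset.sum_const, Finset.card_range,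
    nsmul_eq_mul, CharP.cast_eq_zero, zero_mul, hTr] at h1
  exact (CharP.intCast_eq_zero_iff k p _).1 h1.symm

end CfsgLib.BlockTwist
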