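import Cfsg.Agent.Lib.BlockTwist.StarVal
import Cfsg.Agent.Lib.BlockRank.Watanabe.Diag
import Cfsg.Agent.Lib.BlockRank.StarBound

/-!
# The properties of the star construction used for abelian defect groups
-/

set_option autoImplicit false
set_option maxHeartbeats 1000000
set_option synthInstance.maxHeartbeats 400000

namespace CfsgLib.BlockTwist

open Cfsg CfsgLib.Blocks CfsgLib.Blocks.Pairs
open scoped Classical

universe u

variable {p : ℕ} [Fact p.Prime] {M : Ideal AlgInt} [M.IsMaximal] [CharP (ResField M) p]

/-- The properties of the star construction hold for abelian defect groups. -/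
theorem starProps (hM : Cfsg.IsPModular p M) {G : Type u} [Group G] [Finite G]
    {B : Set (IrrCharacter G)} (hB : IsPBlock M B) {P : Subgroup G}
    {e : MonoidAlgebra (ResField M) G} (hP : PairOf p (ebar hB) P e) (hno : NoExt p P e)
    (hab : ∀ x ∈ P, ∀ y ∈ P, x * y = y * x) :
    CfsgLib.BlockRank.Watanabe.StarProps p M B P e := by
  intro η hst hη χ _
  refine ⟨isGeneralizedCharacter_blockStar hM hP hno hab hst hη
    (CfsgLib.Char.IsIrrCharacter.isCharacter χ.2), fun z hz _ s hs => ?_⟩
  exact star_section hM (CfsgLib.Char.IsIrrCharacter.isClassFunction χ.2) hz s hs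

/-- The coefficients of the star products are integers. -/
theorem starIntegral (hM : Cfsg.IsPModular p M) :
    CfsgLib.BlockRank.StarIntegral.{u} p M := by
  intro G _ _ B hB P e hP hno hab η _ hinv hchar T φ hsurj _ hreps hpair χ hχ ψ _
  have hst : CfsgLib.BlockStar.Stable p P e η := by
    intro u hu g f h1 h2
    rw [CfsgLib.BlockStar.conjSub_zpowers_eq] at h2
    obtain ⟨y, hy, hyu⟩ := CfsgLib.BlockRank.exists_stab_of_fusion hP hno hab h1 h2
    rw [← hyu]
    exact hinv y hy u hu
  obtain ⟨n, lam, c, hc⟩ := hchar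
  have hχc := CfsgLib.Char.IsIrrCharacter.isClassFunction χ.2
  obtain ⟨z, hz⟩ := CfsgLib.CharExc.exists_int_classInner
    (isGeneralizedCharacter_blockStar hM hP hno hab hst
      (CfsgLib.BlockRank.isGeneralizedCharacter_linearCombination lam c _ hc)
      (CfsgLib.Char.IsIrrCharacter.isCharacter χ.2)) ψ.2
  exact ⟨z, by rw [← hz, CfsgLib.BlockRank.classInner_eq_sum_contrib hM hB hP hno hab η hinv T φ
    hsurj hreps hpair (CfsgLib.BlockStar.isClassFunction_star hM hst hχc)
    fun x hx s hs => star_section hM hχc hx s hs]⟩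

/-- The bound for cyclic defect groups. -/
theorem cyclicNormBound (hM : Cfsg.IsPModular p M) :
    CfsgLib.BlockRank.CyclicNormBound.{u} p M := by
  intro G _ _ B _ P hB hD hcyc Z hval v hv
  exact CfsgLib.BlockRank.norm_ge_of_cyclic (starIntegral hM) hM P hB hD hcyc Z hval v hv

end CfsgLib.BlockTwist
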