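import Cfsg.Agent.Lib.BlockTwist.GenChar
import Cfsg.Agent.Lib.BlockStar.Def

/-!
# The star construction for an abelian defect group

The values of the twist agree with those of the star construction, so that the latter gives a
generalized character; on a section it is the sum of the weighted block parts.
-/

set_option autoImplicit false
set_option maxHeartbeats 1000000
set_option synthInstance.maxHeartbeats 400000

namespace CfsgLib.BlockTwist

open Cfsg CfsgLib.Blocks CfsgLib.Blocks.Pairs CfsgLib.DegreeSq
open scoped Classical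

universe u

variable {M : Ideal AlgInt} [M.IsMaximal] {G : Type u} [Group G] [Finite G] {p : ℕ} [Fact p.Prime]
  [CharP (ResField M) p] {P : Subgroup G} {e : MonoidAlgebra (ResField M) G} {η χ : G → ℂ}

theorem val_eq_hat (hM : Cfsg.IsPModular p M) (hχ : Cfsg.IsClassFunction G χ) {h : G}
    {y : MonoidAlgebra (ResField M) G} (hy : conjA h y = y) (hyi : IsIdempotentElem y) :
    BlockStar.val M χ h y = hat χ h y := by
  haveI := Fintype.ofFinite G
  have hym : y ∈ BlockStar.fixAlg (ResField M) (Subgroup.zpowers h) :=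
    BlockStar.mem_fixAlg.2 (conjFixed_iff.2 fun v hv =>
      ((Subgroup.zpowers_le.2 (show h ∈ stabA y from hy)) : _ ≤ stabA y) hv)
  obtain ⟨a, ha, hai, har⟩ := BlockStar.exists_idem_lift hym hyi.eq
  have hc : Commute (MonoidAlgebra.single h (1 : locRing M)) a :=
    BlockStar.commute_of_mem_fixAlg ha (Subgroup.mem_zpowers h)
  rw [BlockStar.val_eq hM hχ hym hyi.eq ha hai (by rw [BlockStar.img, har]),
    hat_spec hχ (E := a) hai har hc, hc.eq, BlockStar.lin_apply]
  rfl

omit [CharP (ResField M) p] in
theorem pairVal_eq_wt (u : G) (f : MonoidAlgebra (ResField M) G) :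
    BlockStar.pairVal p P e η u f = wt p P e η u f := by
  simp only [BlockStar.pairVal, wt, BlockStar.conjSub_zpowers_eq]

/-- The star construction is the twist. -/
theorem star_eq (hM : Cfsg.IsPModular p M) (hχ : Cfsg.IsClassFunction G χ) (g : G) :
    BlockStar.star p M P e η χ g = star p M P e η χ g := by
  have h1 : conjA g (1 : MonoidAlgebra (ResField M) G) = 1 :=
    conjFixed_iff.1 ((inCenter_one (⊤ : Subgroup G)).fixed) g trivial
  have hpp : BlockStar.pp p g = pp p g := rfl
  rw [BlockStar.star, BlockStar.starAt, star, Theta, hpp]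
  refine Finset.sum_congr rfl fun b hb => ?_
  rw [pairVal_eq_wt, val_eq_hat hM hχ (trunc_mul_block_fixed h1 (mem_blks.1 hb))
    (trunc_mul_block_idem IsIdempotentElem.one h1 (mem_blks.1 hb))]

/-- **The star construction gives a generalized character.** -/
theorem isGeneralizedCharacter_blockStar (hM : Cfsg.IsPModular p M)
    {B : MonoidAlgebra (ResField M) G} (hP : PairOf p B P e) (hno : NoExt p P e)
    (hab : ∀ x ∈ P, ∀ y ∈ P, x * y = y * x) (hst : BlockStar.Stable p P e η)
    (hη : Cfsg.IsGeneralizedCharacter P (fun u : P => η u)) (hχ : Cfsg.IsCharacter G χ) :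
    Cfsg.IsGeneralizedCharacter G (BlockStar.star p M P e η χ) := by
  rw [show BlockStar.star p M P e η χ = star p M P e η χ from
    funext (star_eq hM (CfsgLib.Char.IsCharacter.isClassFunction hχ))]
  exact isGeneralizedCharacter_star hM ⟨hP, hno, hab, hst, hη⟩ hχ

/-- **The values on a section.** -/
theorem star_section (hM : Cfsg.IsPModular p M) (hχ : Cfsg.IsClassFunction G χ) {z : G}
    (hz : ∃ k : ℕ, orderOf z = p ^ k)
    [Fintype {b : Set (IrrCharacter (Subgroup.centralizer ({z} : Set G))) // IsPBlock M b}]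
    (s : Subgroup.centralizer ({z} : Set G)) (hs : IsPRegular p s) :
    BlockStar.star p M P e η χ (z * s) =
      ∑ b : {b : Set (IrrCharacter (Subgroup.centralizer ({z} : Set G))) // IsPBlock M b},
        BlockStar.pairVal p P e η z (eIn b.2) *
          blockPart b.1 (fun c : Subgroup.centralizer ({z} : Set G) => χ (z * c)) s := by
  haveI := Fintype.ofFinite G
  have hsz : (s : G) * z = z * s := Subgroup.mem_centralizer_singleton_iff.mp s.2
  have hpp : BlockStar.pp p (z * (s : G)) = z := BlockStar.pp_eq
    ⟨(s : G), rfl, hsz.symm, hz, by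
      show ¬ p ∣ orderOf (s : G); rw [Subgroup.orderOf_coe]; exact hs⟩
  have hC : Subgroup.centralizer (Subgroup.zpowers z : Set G) =
      Subgroup.centralizer ({z} : Set G) := by
    rw [Subgroup.zpowers_eq_closure, Subgroup.centralizer_closure]
  have hzp : IsPGroup p (Subgroup.zpowers z) := by
    obtain ⟨k, hk⟩ := hz
    exact CfsgLib.Blocks.isPGroup_zpowers hk
  rw [BlockStar.star, BlockStar.starAt, hpp]
  refine (Finset.sum_bij (fun b _ => eIn b.2) (fun b _ => ?_) (fun a _ b _ h => ?_) (fun f hf => ?_)
    (fun b _ => ?_)).symm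
  · rw [mem_blks, hC]
    exact isBlockIdem_eIn b.2
  · exact Subtype.ext (eIn_injective a.2 b.2 h)
  · rw [mem_blks, hC] at hf
    obtain ⟨b, hb, rfl⟩ := exists_eIn_eq hf
    exact ⟨⟨b, hb⟩, Finset.mem_univ _, rfl⟩
  · congr 1
    have hbl := isBlockIdem_eIn b.2
    have hfix : conjA (z * (s : G)) (eIn b.2) = eIn b.2 :=
      conjFixed_iff.1 hbl.mem.fixed _ (Subgroup.mul_mem _
        (Subgroup.mem_centralizer_singleton_iff.2 rfl) s.2)
    rw [trunc_one, one_mul, val_eq_hat hM hχ hfix hbl.idem, hat_eIn_eq_blockPart hχ rfl b.2 s]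

end CfsgLib.BlockTwist
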