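import Cfsg.Agent.Lib.BlockTwist.HatVal
import Cfsg.Agent.Lib.Blk83.PairFusion
import Cfsg.Agent.Lib.BlockStar.Def

/-!
# The twist of a class function by an invariant function on a maximal pair
-/

set_option autoImplicit false
set_option maxHeartbeats 1000000
set_option synthInstance.maxHeartbeats 400000

namespace CfsgLib.BlockTwist

open Cfsg CfsgLib.Blocks CfsgLib.Blocks.Pairs CfsgLib.DegreeSq
open scoped Classical

universe u

variable {M : Ideal AlgInt} [M.IsMaximal] {G : Type u} [Group G] [Finite G] {p : ℕ} [Fact p.Prime]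

theorem conjSub_zpowers_eq (g x : G) :
    conjSub g (Subgroup.zpowers x) = Subgroup.zpowers (g * x * g⁻¹) :=
  (MonoidHom.map_zpowers _ x).trans rfl

/-- The `p`-part. -/
noncomputable def pp (p : ℕ) [Fact p.Prime] (g : G) : G :=
  (exists_isPPart (Fact.out : p.Prime) g).choose

theorem pp_spec (g : G) : Cfsg.IsPPart p g (pp p g) :=
  (exists_isPPart (Fact.out : p.Prime) g).choose_spec

theorem pp_eq {g x : G} (h : Cfsg.IsPPart p g x) : pp p g = x :=
  IsPPart.unique (Fact.out : p.Prime) (pp_spec g) h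

theorem pp_conj (c g : G) : pp p (c * g * c⁻¹) = c * pp p g * c⁻¹ :=
  pp_eq (IsPPart.conj (pp_spec g) c)

theorem isPGroup_pp (g : G) : IsPGroup p (Subgroup.zpowers (pp p g)) := by
  obtain ⟨-, -, -, ⟨k, hk⟩, -⟩ := pp_spec (p := p) g
  exact CfsgLib.Blocks.isPGroup_zpowers hk

theorem pp_mem_zpowers (g : G) : pp p g ∈ Subgroup.zpowers g :=
  IsPPart.mem_zpowers (Fact.out : p.Prime) (pp_spec g)

theorem mem_centralizer_pp (g : G) :
    g ∈ Subgroup.centralizer (Subgroup.zpowers (pp p g) : Set G) := by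
  rw [mem_centralizer_zpowers_iff]
  obtain ⟨i, hi⟩ := Subgroup.mem_zpowers_iff.1 (pp_mem_zpowers (p := p) g)
  rw [← hi]
  exact (Commute.refl g).zpow_right i

variable [CharP (ResField M) p]

/-- Fusion below an abelian maximal pair is induced by its stabilizer. -/
theorem exists_stab_conj (hM : Cfsg.IsPModular p M) {B e : MonoidAlgebra (ResField M) G}
    {P : Subgroup G} (hP : PairOf p B P e) (hno : NoExt p P e)
    (hab : ∀ a ∈ P, ∀ b ∈ P, a * b = b * a) {Q : Subgroup G} {f : MonoidAlgebra (ResField M) G}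
    (hle : SLE p Q f P e) {g : G} (hle' : SLE p (conjSub g Q) (conjA g f) P e) :
    ∃ t ∈ pairStab P e, ∀ q ∈ Q, t * q * t⁻¹ = g * q * g⁻¹ := by
  have hPC : ∀ {R : Subgroup G}, R ≤ P → P ≤ Subgroup.centralizer (R : Set G) := fun hR a ha =>
    Subgroup.mem_centralizer_iff.mpr fun q hq => hab q (hR hq) a ha
  have hns : ∀ {R : Subgroup G} {r : MonoidAlgebra (ResField M) G}, SLE p R r P e →
      NS p R r P e := by
    intro R r hr
    obtain ⟨r', hr'⟩ := exists_ns hP.pair hr.le
      ((hPC hr.le).trans (Subgroup.centralizer_le_normalizer _))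
    rwa [SLE.unique hP.pair hr hr'.sle]
  have hh := (hns hle).conj g
  have hg := hns hle'
  have hQp := hle'.pair_left hP.pair
  have hPC' := hPC hle'.le
  have hmx : CfsgLib.Blocks.Pairs.MaxIn p (Subgroup.centralizer (conjSub g Q : Set G)) (conjA g f) P := by
    have := (CfsgLib.Blk83.maxIn_inf_iff hP hno hle' (Subgroup.centralizer_le_normalizer _) le_rfl
      hQp.block.mem.fixed (exists_maxIn_of_isBlockIdem hM hQp.block)).2 fun y _ => by
        rw [inf_eq_left.mpr hPC']; exact Subgroup.card_le_of_le inf_le_left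
    rwa [inf_eq_left.mpr hPC'] at this
  have hXL : conjSub g P ≤ Subgroup.centralizer (conjSub g Q : Set G) := fun y hy =>
    mem_centralizer_conjSub.mpr (hPC hle.le (mem_conjSub.mp hy))
  obtain ⟨c, hc, hcle⟩ := exists_conj_sle_local (hle'.le.trans hPC') le_rfl
    (Subgroup.centralizer_le_normalizer _) hQp.block.mem.fixed hmx hg hh hXL
  rw [conjSub_conjSub, conjA_conjA] at hcle
  have heq : conjSub (c * g) P = P :=
    Subgroup.eq_of_le_of_card_ge hcle.le (card_map_conj _ P).symm.le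
  rw [heq] at hcle
  refine ⟨c * g, ⟨mem_normalizer_of_conjSub_eq heq, SLE.unique hP.pair hcle (SLE.refl P e)⟩,
    fun q hq => ?_⟩
  have h1 : g * q * g⁻¹ * c = c * (g * q * g⁻¹) :=
    Subgroup.mem_centralizer_iff.mp hc _ ⟨q, hq, rfl⟩
  calc c * g * q * (c * g)⁻¹ = c * (g * q * g⁻¹) * c⁻¹ := by group
    _ = g * q * g⁻¹ := by rw [← h1, mul_inv_cancel_right]

/-- The weight of a `p`-element with a block of its centralizer. -/
noncomputable def wt (p : ℕ) (P : Subgroup G) (e : MonoidAlgebra (ResField M) G) (lam : G → ℂ)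
    (u : G) (f : MonoidAlgebra (ResField M) G) : ℂ :=
  if h : ∃ g : G, SLE p (Subgroup.zpowers (g * u * g⁻¹)) (conjA g f) P e then
    lam (h.choose * u * h.choose⁻¹)
  else 0

/-- The data of a twist. -/
structure TwistData (p : ℕ) (B : MonoidAlgebra (ResField M) G) (P : Subgroup G)
    (e : MonoidAlgebra (ResField M) G) (lam : G → ℂ) : Prop where
  pair : PairOf p B P e
  noExt : NoExt p P e
  comm : ∀ a ∈ P, ∀ b ∈ P, a * b = b * a
  stable : CfsgLib.BlockStar.Stable p P e lam
  genChar : Cfsg.IsGeneralizedCharacter P (fun u : P => lam u)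

variable {B e : MonoidAlgebra (ResField M) G} {P : Subgroup G} {lam : G → ℂ}

theorem wt_eq (hM : Cfsg.IsPModular p M) (D : TwistData p B P e lam) {u g : G}
    {f : MonoidAlgebra (ResField M) G}
    (h : SLE p (Subgroup.zpowers (g * u * g⁻¹)) (conjA g f) P e) :
    wt p P e lam u f = lam (g * u * g⁻¹) := by
  have hex : ∃ g : G, SLE p (Subgroup.zpowers (g * u * g⁻¹)) (conjA g f) P e := ⟨g, h⟩
  unfold wt
  rw [dif_pos hex]
  obtain ⟨g', hg', hg'e⟩ : ∃ g', g' = hex.choose ∧
      SLE p (Subgroup.zpowers (g' * u * g'⁻¹)) (conjA g' f) P e := ⟨_, rfl, hex.choose_spec⟩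
  rw [← hg']
  have h2 : SLE p (conjSub (g' * g⁻¹) (Subgroup.zpowers (g * u * g⁻¹)))
      (conjA (g' * g⁻¹) (conjA g f)) P e := by
    rw [conjSub_zpowers_eq, conjA_conjA, inv_mul_cancel_right,
      show g' * g⁻¹ * (g * u * g⁻¹) * (g' * g⁻¹)⁻¹ = g' * u * g'⁻¹ by group]
    exact hg'e
  have h3 := D.stable _ (h.le (Subgroup.mem_zpowers _)) (g' * g⁻¹) _ h h2
  rw [show g' * g⁻¹ * (g * u * g⁻¹) * (g' * g⁻¹)⁻¹ = g' * u * g'⁻¹ by group] at h3
  exact h3

omit [Fact p.Prime] [CharP (ResField M) p] in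
theorem wt_eq_zero {u : G} {f : MonoidAlgebra (ResField M) G}
    (h : ∀ g : G, ¬ SLE p (Subgroup.zpowers (g * u * g⁻¹)) (conjA g f) P e) :
    wt p P e lam u f = 0 := dif_neg fun ⟨g, hg⟩ => h g hg

theorem wt_conj (hM : Cfsg.IsPModular p M) (D : TwistData p B P e lam) (c u : G)
    (f : MonoidAlgebra (ResField M) G) :
    wt p P e lam (c * u * c⁻¹) (conjA c f) = wt p P e lam u f := by
  by_cases h : ∃ g : G, SLE p (Subgroup.zpowers (g * u * g⁻¹)) (conjA g f) P e
  · obtain ⟨g, hg⟩ := h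
    have h' : SLE p (Subgroup.zpowers (g * c⁻¹ * (c * u * c⁻¹) * (g * c⁻¹)⁻¹))
        (conjA (g * c⁻¹) (conjA c f)) P e := by
      rw [conjA_conjA, inv_mul_cancel_right,
        show g * c⁻¹ * (c * u * c⁻¹) * (g * c⁻¹)⁻¹ = g * u * g⁻¹ by group]
      exact hg
    rw [wt_eq hM D hg, wt_eq hM D h']
    congr 1
    group
  · rw [wt_eq_zero fun g hg => h ⟨g, hg⟩, wt_eq_zero fun g hg => h ⟨g * c, ?_⟩]
    rw [conjA_conjA, show g * (c * u * c⁻¹) * g⁻¹ = g * c * u * (g * c)⁻¹ by group] at hg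
    exact hg

/-- A nonzero weight puts the pair in the block. -/
theorem pairOf_of_wt_ne_zero (D : TwistData p B P e lam) {u : G}
    {f : MonoidAlgebra (ResField M) G} (h : wt p P e lam u f ≠ 0) :
    PairOf p B (Subgroup.zpowers u) f := by
  by_contra hn
  refine h (wt_eq_zero fun g hg => hn ?_)
  have h1 := ((SLE.pairOf_iff hg).1 D.pair).conj g⁻¹
  rwa [conjSub_zpowers_eq, conjA_conjA, inv_mul_cancel, conjA_one,
    show g⁻¹ * (g * u * g⁻¹) * g⁻¹⁻¹ = u by group] at h1

variable {χ : G → ℂ}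

/-- The twist of `χ`, cut by an idempotent. -/
noncomputable def Theta (p : ℕ) [Fact p.Prime] (P : Subgroup G)
    (e : MonoidAlgebra (ResField M) G) (lam χ : G → ℂ) (ε : MonoidAlgebra (ResField M) G)
    (g : G) : ℂ :=
  ∑ f ∈ blks (Subgroup.centralizer (Subgroup.zpowers (pp p g) : Set G)),
    wt p P e lam (pp p g) f * hat χ g (trunc (Subgroup.zpowers (pp p g)) ε * f)

omit [CharP (ResField M) p] in
theorem trunc_mul_block_fixed {g : G} {ε f : MonoidAlgebra (ResField M) G}
    (hg : conjA g ε = ε)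
    (hf : IsBlockIdem (Subgroup.centralizer (Subgroup.zpowers (pp p g) : Set G)) f) :
    conjA g (trunc (Subgroup.zpowers (pp p g)) ε * f) =
      trunc (Subgroup.zpowers (pp p g)) ε * f := by
  have hgC := mem_centralizer_pp (p := p) g
  rw [conjA_mul, conjFixed_iff.1 hf.mem.fixed g hgC]
  congr 1
  have h := trunc_conjA g (Subgroup.zpowers (pp p g)) ε
  rw [conjSub_eq_of_mem_normalizer (Subgroup.centralizer_le_normalizer _ hgC), hg] at h
  exact h.symm

theorem trunc_fixed_pp {g : G} {ε : MonoidAlgebra (ResField M) G} (hg : conjA g ε = ε) :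
    ConjFixed (Subgroup.zpowers (pp p g)) ε :=
  conjFixed_iff.2 fun _ hv => ((Subgroup.zpowers_le.2
    ((Subgroup.zpowers_le.2 (show g ∈ stabA ε from hg) : _ ≤ stabA ε)
      (pp_mem_zpowers (p := p) g)) : _ ≤ stabA ε)) hv

theorem trunc_mul_block_idem {g : G} {ε f : MonoidAlgebra (ResField M) G}
    (hε : IsIdempotentElem ε) (hg : conjA g ε = ε)
    (hf : IsBlockIdem (Subgroup.centralizer (Subgroup.zpowers (pp p g) : Set G)) f) :
    IsIdempotentElem (trunc (Subgroup.zpowers (pp p g)) ε * f) := by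
  refine IsIdempotentElem.mul_of_commute (mul_comm_of_suppIn (trunc_suppIn _ _) hf.mem.fixed) ?_
    hf.idem
  show _ = _
  rw [← trunc_mul (isPGroup_pp g) (trunc_fixed_pp hg) (trunc_fixed_pp hg), hε.eq]

theorem Theta_zero (hχ : Cfsg.IsClassFunction G χ) (g : G) :
    Theta p P e lam χ (0 : MonoidAlgebra (ResField M) G) g = 0 := by
  refine Finset.sum_eq_zero fun f _ => ?_
  rw [trunc_zero, zero_mul, hat_zero hχ, mul_zero]

theorem Theta_add (hχ : Cfsg.IsClassFunction G χ) {g : G} {x y : MonoidAlgebra (ResField M) G}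
    (hx : IsIdempotentElem x) (hy : IsIdempotentElem y) (h1 : x * y = 0) (h2 : y * x = 0)
    (hgx : conjA g x = x) (hgy : conjA g y = y) :
    Theta p P e lam χ (x + y) g = Theta p P e lam χ x g + Theta p P e lam χ y g := by
  rw [Theta, Theta, Theta, ← Finset.sum_add_distrib]
  refine Finset.sum_congr rfl fun f hf => ?_
  have hf' := mem_blks.1 hf
  have hz : ∀ a b : MonoidAlgebra (ResField M) G, conjA g a = a → conjA g b = b → a * b = 0 →
      trunc (Subgroup.zpowers (pp p g)) a * f * (trunc (Subgroup.zpowers (pp p g)) b * f) = 0 := by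
    intro a b ha hb hab
    rw [mul_assoc, ← mul_assoc f, ← mul_comm_of_suppIn (trunc_suppIn _ b) hf'.mem.fixed,
      mul_assoc _ f f, hf'.idem, ← mul_assoc,
      ← trunc_mul (isPGroup_pp g) (trunc_fixed_pp ha) (trunc_fixed_pp hb), hab, trunc_zero,
      zero_mul]
  rw [trunc_add, add_mul, hat_add hχ (trunc_mul_block_idem hx hgx hf')
    (trunc_mul_block_idem hy hgy hf') (hz x y hgx hgy h1) (hz y x hgy hgx h2)
    (trunc_mul_block_fixed hgx hf') (trunc_mul_block_fixed hgy hf'), mul_add]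

/-- Only the block matters. -/
theorem Theta_mul_block (D : TwistData p B P e lam) {g : G} {ε : MonoidAlgebra (ResField M) G}
    (hg : conjA g ε = ε) :
    Theta p P e lam χ (ε * B) g = Theta p P e lam χ ε g := by
  refine Finset.sum_congr rfl fun f hf => ?_
  by_cases hw : wt p P e lam (pp p g) f = 0
  · rw [hw, zero_mul, zero_mul]
  · rw [trunc_mul (isPGroup_pp g) (trunc_fixed_pp hg)
      (D.pair.blockB.mem.conjFixed_top _), mul_assoc, (pairOf_of_wt_ne_zero D hw).br]

/-- Equivariance. -/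
theorem Theta_conj (hM : Cfsg.IsPModular p M) (D : TwistData p B P e lam)
    (hχ : Cfsg.IsClassFunction G χ) (c : G) {g : G} {ε : MonoidAlgebra (ResField M) G}
    (hε : IsIdempotentElem ε) (hg : conjA g ε = ε) :
    Theta p P e lam χ (conjA c ε) (c * g * c⁻¹) = Theta p P e lam χ ε g := by
  have hC : Subgroup.centralizer (Subgroup.zpowers (pp p (c * g * c⁻¹)) : Set G) =
      conjSub c (Subgroup.centralizer (Subgroup.zpowers (pp p g) : Set G)) := by
    rw [pp_conj, ← conjSub_zpowers_eq, centralizer_conjSub]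
  symm
  refine Finset.sum_bij (fun f _ => conjA c f) (fun f hf => ?_)
    (fun a _ b _ h => conjA_injective c h) (fun f hf => ?_) (fun f hf => ?_)
  · rw [mem_blks, hC]
    exact (mem_blks.1 hf).conj c
  · have h1 := (mem_blks.1 hf).conj c⁻¹
    rw [hC, conjSub_conjSub, inv_mul_cancel, conjSub_one] at h1
    exact ⟨conjA c⁻¹ f, mem_blks.2 h1, by rw [conjA_conjA, mul_inv_cancel, conjA_one]⟩
  · have hf' := mem_blks.1 hf
    rw [pp_conj, wt_conj hM D, ← conjSub_zpowers_eq, trunc_conjA, ← conjA_mul,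
      hat_conj hχ c (trunc_mul_block_idem hε hg hf') (trunc_mul_block_fixed hg hf')]

/-- On the fixed algebra of a subgroup the twist is a function of idempotents. -/
theorem isIdemFun_Theta (hχ : Cfsg.IsClassFunction G χ) {K : Subgroup G} {g : G} (hg : g ∈ K) :
    IsIdemFun (fun x : fixAlg M (K : Set G) =>
      Theta p P e lam χ (x : MonoidAlgebra (ResField M) G) g) := by
  refine ⟨fun x y hx U hxy => ?_, fun x y hx hy h1 h2 => ?_⟩
  · have hu : pp p g ∈ K := (Subgroup.zpowers_le.2 hg) (pp_mem_zpowers g)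
    refine Finset.sum_congr rfl fun f hf => congrArg _ ?_
    have hf' := mem_blks.1 hf
    have hgC := mem_centralizer_pp (p := p) g
    let π := brU (M := M) (S := (K : Set G)) hu (isPGroup_pp g)
    have hπ : ∀ a : fixAlg M (K : Set G), π a = trunc (Subgroup.zpowers (pp p g))
        (a : MonoidAlgebra (ResField M) G) := fun a => rfl
    have hfix : ∀ a : fixAlg M (K : Set G), π a ∈ fixAlg M ({g} : Set G) := fun a => by
      rw [hπ]
      refine trunc_mem_fixAlg ?_ (fixAlg_anti (Set.singleton_subset_iff.2 hg) a.2)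
      exact Set.singleton_subset_iff.2 (Subgroup.centralizer_le_normalizer _ hgC)
    let V : (fixAlg M ({g} : Set G))ˣ := ⟨⟨π U.val, hfix _⟩, ⟨π (U⁻¹).val, hfix _⟩,
      Subtype.ext (by
        show π U.val * π (U⁻¹).val = 1
        rw [← map_mul, Units.mul_inv, map_one]),
      Subtype.ext (by
        show π (U⁻¹).val * π U.val = 1
        rw [← map_mul, Units.inv_mul, map_one])⟩
    have hV : trunc (Subgroup.zpowers (pp p g)) (x : MonoidAlgebra (ResField M) G) * f * π U.val =
        π U.val * (trunc (Subgroup.zpowers (pp p g)) (y : MonoidAlgebra (ResField M) G) * f) := by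
      rw [← hπ x, ← hπ y, ← mul_assoc, ← map_mul, ← hxy, mul_assoc, hπ U.val,
        ← mul_comm_of_suppIn (trunc_suppIn _ _) hf'.mem.fixed, ← mul_assoc, ← hπ U.val, ← map_mul]
    exact (isIdemFun_hat hχ (S := ({g} : Set G)) rfl).conj
      ⟨_, mem_fixAlg.2 fun v hv => by
        rw [Set.mem_singleton_iff.1 hv]; exact trunc_mul_block_fixed (mem_fixAlg.1 x.2 g hg) hf'⟩
      ⟨_, mem_fixAlg.2 fun v hv => by
        rw [Set.mem_singleton_iff.1 hv]; exact trunc_mul_block_fixed (mem_fixAlg.1 y.2 g hg) hf'⟩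
      (Subtype.ext (trunc_mul_block_idem (congrArg Subtype.val hx.eq)
        (mem_fixAlg.1 x.2 g hg) hf').eq) V (Subtype.ext hV)
  · exact Theta_add hχ (congrArg Subtype.val hx.eq) (congrArg Subtype.val hy.eq)
      (congrArg Subtype.val h1) (congrArg Subtype.val h2) (mem_fixAlg.1 x.2 g hg)
      (mem_fixAlg.1 y.2 g hg)

end CfsgLib.BlockTwist
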